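import Cfsg.Agent.KM.BK.Defs
import Cfsg.Prelude.Def_LieTypeChar
import Cfsg.Prelude.Def_Classification2

/-!
# KM (S4999): the rows (helper27)

* `Hyp p M B D σ` : `B` is a faithful block of the cover `σ : K →* S` (cyclic centre of order prime to `p`) with a
  non-cyclic abelian defect group `D` of order at least `p ^ 3`;
* `Row p S` : all such blocks have heights zero; `RowFor C`; `Rows`; `Rows.known`, `Rows.qs`.
-/

set_option autoImplicit false

namespace Cfsg.Agent.KM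

open Cfsg

/-- the hypothesis of the quasisimple case; `σ` is the quotient by the centre -/
structure Hyp (p : ℕ) (M : Ideal AlgInt) {K : Type} [Group K] (B : Set (IrrCharacter K)) (D : Subgroup K) {S : Type}
    [Group S] (σ : K →* S) : Prop where
  hM : IsPModular p M
  hB : IsPBlock M B
  hD : IsDefectGroup p M B D
  ab : IsMulCommutative D
  nc : ¬ IsCyclic D
  big : 3 ≤ blockDefect p B
  qs : IsQuasisimple K
  surj : Function.Surjective σ
  ker : σ.ker = Subgroup.center K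
  zp : ¬ p ∣ Nat.card (Subgroup.center K)
  cyc : IsCyclic (Subgroup.center K)
  faith : ∀ χ ∈ B, ∀ z ∈ Subgroup.center K, (χ : K → ℂ) z = (χ : K → ℂ) 1 → z = 1

/-- the statement for the covers of `S` -/
def Row (p : ℕ) (S : Type) [Group S] : Prop :=
  ∀ (K : Type) [Group K] [Finite K] (σ : K →* S) (M : Ideal AlgInt) (B : Set (IrrCharacter K)) (D : Subgroup K),
    Hyp p M B D σ → BK.HZ p B

theorem Hyp.congr {p : ℕ} {M : Ideal AlgInt} {K : Type} [Group K] {B : Set (IrrCharacter K)} {D : Subgroup K}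
    {S T : Type} [Group S] [Group T] {σ : K →* S} (H : Hyp p M B D σ) (e : S ≃* T) :
    Hyp p M B D (e.toMonoidHom.comp σ) :=
  { H with
    surj := e.surjective.comp H.surj
    ker := by
      rw [← H.ker]
      ext x
      simp [MonoidHom.mem_ker] }

/-- the central quotient -/
noncomputable def Hyp.equiv {p : ℕ} {M : Ideal AlgInt} {K : Type} [Group K] {B : Set (IrrCharacter K)} {D : Subgroup K}
    {S : Type} [Group S] {σ : K →* S} (H : Hyp p M B D σ) : K ⧸ Subgroup.center K ≃* S :=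
  (QuotientGroup.quotientMulEquivOfEq H.ker.symm).trans (QuotientGroup.quotientKerEquivOfSurjective σ H.surj)

theorem Row.of_equiv {p : ℕ} {S T : Type} [Group S] [Group T] (e : S ≃* T) (h : Row p T) : Row p S :=
  fun K _ _ _ M B D H => h K _ M B D (H.congr e)

/-- a row from `KMg` for all covers with centre of order prime to `p` -/
theorem Row.of_kmg {p : ℕ} {S : Type} [Group S]
    (h : ∀ (K : Type) [Group K] [Finite K] (σ : K →* S) (M : Ideal AlgInt), IsPModular p M → IsQuasisimple K →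
      Function.Surjective σ → σ.ker = Subgroup.center K → ¬ p ∣ Nat.card (Subgroup.center K) → BK.KMg p M K) :
    Row p S := fun K _ _ σ M B D H => h K σ M H.hM H.qs H.surj H.ker H.zp B D H.hB H.hD H.ab

/-- the statement for the nonabelian simple groups with the property `C p` -/
def RowFor (C : ℕ → ∀ (S : Type) [Group S], Prop) : Prop :=
  ∀ (p : ℕ) [Fact p.Prime] (S : Type) [Group S] [Finite S] [IsSimpleGroup S],
    ¬ IsMulCommutative S → C p S → Row p S

/-- the part of a row with `p = 2` -/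
abbrev Ev (C : ℕ → ∀ (S : Type) [Group S], Prop) : ℕ → ∀ (S : Type) [Group S], Prop := fun p S _ => p = 2 ∧ C p S

/-- the part of a row with `p ≠ 2` -/
abbrev Od (C : ℕ → ∀ (S : Type) [Group S], Prop) : ℕ → ∀ (S : Type) [Group S], Prop := fun p S _ => p ≠ 2 ∧ C p S

theorem RowFor.of_split {C : ℕ → ∀ (S : Type) [Group S], Prop} (h1 : RowFor (Ev C)) (h2 : RowFor (Od C)) : RowFor C :=
  fun p _ S _ _ _ hS h => (em (p = 2)).elim (fun e => h1 p S hS ⟨e, h⟩) fun e => h2 p S hS ⟨e, h⟩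

/-! ### the families in cross characteristic -/

def CAlt : ℕ → ∀ (S : Type) [Group S], Prop := fun _ S _ => IsAlternating S

def CLie : ℕ → ∀ (S : Type) [Group S], Prop := fun p S _ => IsLieTypeChar p S

def CPsl : ℕ → ∀ (S : Type) [Group S], Prop := fun p S _ => ∃ (F : Type) (_ : Field F) (_ : Fintype F) (n : ℕ), (p : F) ≠ 0 ∧
    2 ≤ n ∧ (n = 2 → 4 ≤ Fintype.card F) ∧ Nonempty (S ≃* Matrix.ProjectiveSpecialLinearGroup (Fin n) F)

def CPsp : ℕ → ∀ (S : Type) [Group S], Prop := fun p S _ => ∃ (F : Type) (_ : Field F) (_ : Fintype F) (m : ℕ), (p : F) ≠ 0 ∧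
    2 ≤ m ∧ (m = 2 → 3 ≤ Fintype.card F) ∧ Nonempty (S ≃* PSp m F)

def CPsu : ℕ → ∀ (S : Type) [Group S], Prop := fun p S _ => ∃ (F : Type) (_ : Field F) (_ : Fintype F) (n q : ℕ), (p : F) ≠ 0 ∧
    Fintype.card F = q ^ 2 ∧ 3 ≤ n ∧ ¬ (n = 3 ∧ q = 2) ∧ Nonempty (S ≃* PSU n F q)

def COdd : ℕ → ∀ (S : Type) [Group S], Prop := fun p S _ => ∃ (F : Type) (_ : Field F) (_ : Fintype F) (m : ℕ), (p : F) ≠ 0 ∧
    3 ≤ m ∧ Odd (Fintype.card F) ∧ Nonempty (S ≃* POmega F (quadFormOdd m F))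

def CPlus : ℕ → ∀ (S : Type) [Group S], Prop := fun p S _ => ∃ (F : Type) (_ : Field F) (_ : Fintype F) (m : ℕ), (p : F) ≠ 0 ∧
    4 ≤ m ∧ Nonempty (S ≃* POmega F (quadFormPlus m F))

def CMinus : ℕ → ∀ (S : Type) [Group S], Prop := fun p S _ => ∃ (F : Type) (_ : Field F) (_ : Fintype F) (m : ℕ) (a b : F),
    (p : F) ≠ 0 ∧ 4 ≤ m ∧ (∀ z₁ z₂ : F, z₁ ^ 2 + a * z₁ * z₂ + b * z₂ ^ 2 = 0 → z₁ = 0 ∧ z₂ = 0) ∧
    Nonempty (S ≃* POmega F (quadFormMinus (m - 1) F a b))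

def CG2 : ℕ → ∀ (S : Type) [Group S], Prop := fun p S _ => ∃ (F : Type) (_ : Field F) (_ : Fintype F), (p : F) ≠ 0 ∧
    3 ≤ Fintype.card F ∧ Nonempty (S ≃* Lie.chevG2.group F)

def CF4 : ℕ → ∀ (S : Type) [Group S], Prop := fun p S _ => ∃ (F : Type) (_ : Field F) (_ : Fintype F), (p : F) ≠ 0 ∧
    Nonempty (S ≃* Lie.chevF4.group F)

def CE6 : ℕ → ∀ (S : Type) [Group S], Prop := fun p S _ => ∃ (F : Type) (_ : Field F) (_ : Fintype F), (p : F) ≠ 0 ∧
    Nonempty (S ≃* Lie.chevE6.group F)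

def CE7 : ℕ → ∀ (S : Type) [Group S], Prop := fun p S _ => ∃ (F : Type) (_ : Field F) (_ : Fintype F), (p : F) ≠ 0 ∧
    Nonempty (S ≃* Lie.chevE7.group F)

def CE8 : ℕ → ∀ (S : Type) [Group S], Prop := fun p S _ => ∃ (F : Type) (_ : Field F) (_ : Fintype F), (p : F) ≠ 0 ∧
    Nonempty (S ≃* Lie.chevE8.group F)

def CTe6 : ℕ → ∀ (S : Type) [Group S], Prop := fun p S _ => ∃ (K : Type) (_ : Field K) (_ : Fintype K) (q : ℕ), (p : K) ≠ 0 ∧
    IsPrimePow q ∧ Fintype.card K = q ^ 2 ∧ Nonempty (S ≃* Lie.twistedE6 K q)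

def CTd4 : ℕ → ∀ (S : Type) [Group S], Prop := fun p S _ => ∃ (K : Type) (_ : Field K) (_ : Fintype K) (q : ℕ), (p : K) ≠ 0 ∧
    IsPrimePow q ∧ Fintype.card K = q ^ 3 ∧ Nonempty (S ≃* Lie.twistedD4 K q)

def CSz : ℕ → ∀ (S : Type) [Group S], Prop := fun p S _ => p ≠ 2 ∧ Lie.IsoSuzuki S

def CRee : ℕ → ∀ (S : Type) [Group S], Prop := fun p S _ => p ≠ 3 ∧ Lie.IsoRee S

def CTf4 : ℕ → ∀ (S : Type) [Group S], Prop := fun p S _ => p ≠ 2 ∧ Lie.Iso2F4 S

def CTits : ℕ → ∀ (S : Type) [Group S], Prop := fun _ S _ => Lie.IsoTits S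

def CSpor : ℕ → ∀ (S : Type) [Group S], Prop := fun _ S _ => IsSporadicGroup S

/-- the rows; all the rows of Lie type except `lie` are in cross characteristic -/
structure Rows : Prop where
  alt : RowFor CAlt
  lie : RowFor CLie
  psl : RowFor CPsl
  psp : RowFor CPsp
  psu : RowFor CPsu
  oodd : RowFor COdd
  oplus : RowFor CPlus
  ominus : RowFor CMinus
  g2 : RowFor CG2
  f4 : RowFor CF4
  e6 : RowFor CE6
  e7 : RowFor CE7
  e8 : RowFor CE8
  te6 : RowFor CTe6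
  td4 : RowFor CTd4
  sz : RowFor CSz
  ree : RowFor CRee
  tf4 : RowFor CTf4
  tits : RowFor CTits
  spor : RowFor CSpor

theorem charP_of_cast {F : Type} [Field F] {p : ℕ} [hp : Fact p.Prime] (h : (p : F) = 0) : CharP F p :=
  (CharP.charP_iff_prime_eq_zero hp.out).2 h

/-- the assembly over the known simple groups -/
theorem Rows.known (R : Rows) : RowFor (fun _ S _ => IsKnownSimple' S) := by
  intro p _ S _ _ _ hS hC
  have lie : IsLieTypeChar p S → Row p S := fun h => R.lie p S hS h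
  have exc : IsExceptionalChevChar p S → Row p S := fun h =>
    lie (Or.inr (Or.inr (Or.inr (Or.inr (Or.inr (Or.inr (Or.inl h)))))))
  have tw : IsTwistedE6D4Char p S → Row p S := fun h =>
    lie (Or.inr (Or.inr (Or.inr (Or.inr (Or.inr (Or.inr (Or.inr (Or.inl h))))))))
  rcases hC with h | h | h | h | h | h | h | h | h | h
  · exfalso
    apply hS
    have : Fact (Nat.card S).Prime := ⟨h⟩
    have := isCyclic_of_prime_card (p := Nat.card S) (α := S) rfl
    exact ⟨⟨fun a b => (IsCyclic.commGroup (α := S)).mul_comm a b⟩⟩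
  · exact R.alt p S hS h
  · obtain ⟨F, iF, iN, n, hn, hn2, he⟩ := h
    by_cases hF : (p : F) = 0
    · exact lie (Or.inl ⟨F, iF, iN, charP_of_cast hF, n, hn, hn2, he⟩)
    · exact R.psl p S hS ⟨F, iF, iN, n, hF, hn, hn2, he⟩
  · obtain ⟨F, iF, iN, n, hn, hn2, he⟩ := h
    by_cases hF : (p : F) = 0
    · exact lie (Or.inr (Or.inl ⟨F, iF, iN, charP_of_cast hF, n, hn, hn2, he⟩))
    · exact R.psp p S hS ⟨F, iF, iN, n, hF, hn, hn2, he⟩
  · obtain ⟨F, iF, iN, n, q, hq, hn, hn2, he⟩ := h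
    by_cases hF : (p : F) = 0
    · exact lie (Or.inr (Or.inr (Or.inl ⟨F, iF, iN, charP_of_cast hF, n, q, hq, hn, hn2, he⟩)))
    · exact R.psu p S hS ⟨F, iF, iN, n, q, hF, hq, hn, hn2, he⟩
  · obtain ⟨F, iF, iN, m, hm, hodd, he⟩ := h
    by_cases hF : (p : F) = 0
    · exact lie (Or.inr (Or.inr (Or.inr (Or.inl ⟨F, iF, iN, charP_of_cast hF, m, hm, hodd, he⟩))))
    · exact R.oodd p S hS ⟨F, iF, iN, m, hF, hm, hodd, he⟩
  · obtain ⟨F, iF, iN, m, hm, he⟩ := h
    by_cases hF : (p : F) = 0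
    · exact lie (Or.inr (Or.inr (Or.inr (Or.inr (Or.inl ⟨F, iF, iN, charP_of_cast hF, m, hm, he⟩)))))
    · exact R.oplus p S hS ⟨F, iF, iN, m, hF, hm, he⟩
  · obtain ⟨F, iF, iN, m, a, b, hm, hab, he⟩ := h
    by_cases hF : (p : F) = 0
    · exact lie (Or.inr (Or.inr (Or.inr (Or.inr (Or.inr (Or.inl
        ⟨F, iF, iN, charP_of_cast hF, m, a, b, hm, hab, he⟩))))))
    · exact R.ominus p S hS ⟨F, iF, iN, m, a, b, hF, hm, hab, he⟩
  · rcases h with h | h | h | h | h | h | h | h | h | h | h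
    · obtain ⟨F, iF, iN, h3, he⟩ := h
      by_cases hF : (p : F) = 0
      · exact exc ⟨F, iF, iN, charP_of_cast hF, Or.inl ⟨h3, he⟩⟩
      · exact R.g2 p S hS ⟨F, iF, iN, hF, h3, he⟩
    · obtain ⟨F, iF, iN, he⟩ := h
      by_cases hF : (p : F) = 0
      · exact exc ⟨F, iF, iN, charP_of_cast hF, Or.inr (Or.inl he)⟩
      · exact R.f4 p S hS ⟨F, iF, iN, hF, he⟩
    · obtain ⟨F, iF, iN, he⟩ := h
      by_cases hF : (p : F) = 0
      · exact exc ⟨F, iF, iN, charP_of_cast hF, Or.inr (Or.inr (Or.inl he))⟩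
      · exact R.e6 p S hS ⟨F, iF, iN, hF, he⟩
    · obtain ⟨F, iF, iN, he⟩ := h
      by_cases hF : (p : F) = 0
      · exact exc ⟨F, iF, iN, charP_of_cast hF, Or.inr (Or.inr (Or.inr (Or.inl he)))⟩
      · exact R.e7 p S hS ⟨F, iF, iN, hF, he⟩
    · obtain ⟨F, iF, iN, he⟩ := h
      by_cases hF : (p : F) = 0
      · exact exc ⟨F, iF, iN, charP_of_cast hF, Or.inr (Or.inr (Or.inr (Or.inr he)))⟩
      · exact R.e8 p S hS ⟨F, iF, iN, hF, he⟩
    · obtain ⟨K, iF, iN, q, hq, hK, he⟩ := h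
      by_cases hF : (p : K) = 0
      · exact tw ⟨K, iF, iN, charP_of_cast hF, q, hq, Or.inl ⟨hK, he⟩⟩
      · exact R.te6 p S hS ⟨K, iF, iN, q, hF, hq, hK, he⟩
    · obtain ⟨K, iF, iN, q, hq, hK, he⟩ := h
      by_cases hF : (p : K) = 0
      · exact tw ⟨K, iF, iN, charP_of_cast hF, q, hq, Or.inr ⟨hK, he⟩⟩
      · exact R.td4 p S hS ⟨K, iF, iN, q, hF, hq, hK, he⟩
    · by_cases hp2 : p = 2
      · exact lie (Or.inr (Or.inr (Or.inr (Or.inr (Or.inr (Or.inr (Or.inr (Or.inr (Or.inl ⟨hp2, h⟩)))))))))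
      · exact R.sz p S hS ⟨hp2, h⟩
    · by_cases hp3 : p = 3
      · exact lie (Or.inr (Or.inr (Or.inr (Or.inr (Or.inr (Or.inr (Or.inr (Or.inr (Or.inr (Or.inr
          ⟨hp3, h⟩))))))))))
      · exact R.ree p S hS ⟨hp3, h⟩
    · by_cases hp2 : p = 2
      · exact lie (Or.inr (Or.inr (Or.inr (Or.inr (Or.inr (Or.inr (Or.inr (Or.inr (Or.inr (Or.inl ⟨hp2, h⟩))))))))))
      · exact R.tf4 p S hS ⟨hp2, h⟩
    · exact R.tits p S hS h
  · exact R.spor p S hS h

/-- **the quasisimple case from the rows and the classification** -/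
theorem Rows.qs (R : Rows) (cfsg : ∀ (S : Type) [Group S] [Finite S] [IsSimpleGroup S], IsKnownSimple' S) :
    BK.QS.{0} := by
  intro p _ M hM K _ _ hK hz hc B D hB hD hA hn hb hf
  have := hK.2
  refine R.known p (K ⧸ Subgroup.center K) (fun hab => ?_) (cfsg _) K (QuotientGroup.mk' _) M B D
    ⟨hM, hB, hD, hA, hn, hb, hK, QuotientGroup.mk'_surjective _, QuotientGroup.ker_mk' _, hz, hc, hf⟩
  have h1 : commutator K ≤ Subgroup.center K := by
    rw [← QuotientGroup.ker_mk' (Subgroup.center K), commutator_def, Subgroup.commutator_le]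
    intro a _ b _
    rw [MonoidHom.mem_ker, map_commutatorElement, commutatorElement_eq_one_iff_mul_comm]
    exact hab.is_comm.comm _ _
  rw [hK.1.commutator_eq_top] at h1
  obtain ⟨x, y, hxy⟩ := exists_pair_ne (K ⧸ Subgroup.center K)
  obtain ⟨a, rfl⟩ := QuotientGroup.mk_surjective x
  obtain ⟨b, rfl⟩ := QuotientGroup.mk_surjective y
  exact hxy (QuotientGroup.eq.2 (h1 (Subgroup.mem_top _)))

end Cfsg.Agent.KM
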