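import Cfsg.Agent.KM.BK.Defs
import Cfsg.Agent.TO.DC.Lie
import Cfsg.Agent.H858.NRowLie
import Cfsg.Agent.H44.SEofTI
import Cfsg.Agent.StrongEmb.Strong
import Cfsg.Agent.H511.SelfNormFwd
import Cfsg.Agent.H669.Basic
import Cfsg.Agent.H400.BlockDefect
import Cfsg.Agent.S0089
import Cfsg.Agent.S0276
import Cfsg.Agent.S0914
import Cfsg.Agent.S2300
import Cfsg.Agent.S4710

/-!
# Abelian defect groups in the defining characteristic (helper48)

* `hz_central` : the characters of a block with a central defect group have height zero;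
* `cen_or_syl` : the defect groups of a central extension of a group of Lie type in the defining characteristic are
  central or Sylow subgroups;
* `psl2_of_comm` : abelian Sylow subgroups in the defining characteristic occur only in `PSL₂`;
* `own` : abelian defect group implies height zero.
-/

set_option autoImplicit false
set_option linter.unusedSectionVars false

namespace Cfsg.Agent.KM.Own

open Cfsg Matrix

variable {p : ℕ} [hp : Fact p.Prime] {G : Type*} [Group G] [Finite G] {M : Ideal AlgInt} {B : Set (IrrCharacter G)}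
  {D : Subgroup G}

/-- **central defect groups** -/
theorem hz_central (hM : IsPModular p M) (hB : IsPBlock M B) (hD : IsDefectGroup p M B D)
    (h : D ≤ Subgroup.center G) {χ : IrrCharacter G} : blockHeight p B χ.1 = 0 := by
  have h1 := S0908.result p M hM B hB D hD
  have h2 := ((H669.Basic.charDegree_dvd_index_center χ.2).trans (Subgroup.index_dvd_of_le h))
  have h3 := Nat.factorization_le_factorization_of_dvd_right (a := p) h2 (Blocks.Basic.charDegree_pos χ.2).ne'
    Subgroup.FiniteIndex.index_ne_zero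
  have h4 := congrArg (fun n => n.factorization p) D.card_mul_index
  simp only [h1] at h4
  rw [Nat.factorization_mul (pow_ne_zero _ hp.out.ne_zero) Subgroup.FiniteIndex.index_ne_zero, Finsupp.add_apply,
    Nat.factorization_pow_self hp.out] at h4
  unfold blockDefect at h4
  unfold blockHeight
  omega

/-- a character of degree prime to `p` or of defect zero has height zero -/
theorem hz_of_deg (hM : IsPModular p M) (hB : IsPBlock M B) {χ : IrrCharacter G} (hχ : χ ∈ B)
    (h : ¬ p ∣ charDegree χ.1 ∨ ¬ p ∣ Nat.card G / charDegree χ.1) : blockHeight p B χ.1 = 0 := by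
  unfold blockHeight
  rcases h with h | h
  · rw [Nat.factorization_eq_zero_of_not_dvd h, Nat.zero_sub]
  · have := hM.2.1.isPrime
    rw [Blocks.Basic.isPBlock_eq_blockOf hB hχ, (S0914.result p M hM χ).1 h, Set.image_singleton, csInf_singleton,
      Nat.sub_self]

theorem deg_sl2 {F : Type*} [Field F] [Fintype F] [CharP F p] {χ : SpecialLinearGroup (Fin 2) F → ℂ}
    (hχ : IsIrrCharacter _ χ) (hd : p ∣ charDegree χ) : charDegree χ = Fintype.card F := by
  obtain ⟨n, -, hn⟩ := FiniteField.card F p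
  have hq : p ∣ Fintype.card F := by rw [hn]; exact dvd_pow_self p n.ne_zero
  have h1 : 1 ≤ Fintype.card F := Fintype.card_pos
  have h0 : ¬ p ∣ 1 := fun h => hp.out.one_lt.ne' (Nat.dvd_one.1 h)
  have ha : ¬ p ∣ Fintype.card F + 1 := fun h => h0 ((Nat.dvd_add_right hq).1 h)
  have hb : ¬ p ∣ Fintype.card F - 1 := fun h => h0 (Nat.sub_sub_self h1 ▸ Nat.dvd_sub hq h)
  have e1 : χ 1 ≠ 1 := fun h => h0 (Blocks.Basic.charDegree_of_eq (χ := χ) (n := 1) (by rw [h, Nat.cast_one]) ▸ hd)
  have e2 : χ 1 ≠ (Fintype.card F : ℂ) + 1 := fun h =>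
    ha (Blocks.Basic.charDegree_of_eq (χ := χ) (n := Fintype.card F + 1) (by rw [h, Nat.cast_succ]) ▸ hd)
  have e3 : χ 1 ≠ (Fintype.card F : ℂ) - 1 := fun h =>
    hb (Blocks.Basic.charDegree_of_eq (χ := χ) (n := Fintype.card F - 1) (by rw [h, Nat.cast_pred h1]) ▸ hd)
  by_cases h2 : p = 2
  · subst h2
    rcases (S2300.result (F := F)).1 χ hχ with h | h | h | h
    exacts [absurd h e1, absurd h e3, Blocks.Basic.charDegree_of_eq h, absurd h e2]
  obtain ⟨c, hc⟩ : Odd (Fintype.card F) := by rw [hn]; exact (hp.out.odd_of_ne_two h2).pow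
  rcases (S2299.result (F := F) ⟨c, hc⟩).1 χ hχ with h | h | h | h | h | h
  exacts [absurd h e1, Blocks.Basic.charDegree_of_eq h, absurd h e2, absurd h e3,
    absurd ((Blocks.Basic.charDegree_of_eq h ▸ hd).trans ⟨2, by omega⟩) ha,
    absurd ((Blocks.Basic.charDegree_of_eq h ▸ hd).trans ⟨2, by omega⟩) hb]

/-- **quotients of `SL₂(q)`** : all characters have height zero -/
theorem hz_sl2 {F : Type*} [Field F] [Fintype F] [CharP F p] (φ : SpecialLinearGroup (Fin 2) F →* G)
    (hφ : Function.Surjective φ) (hM : IsPModular p M) (hB : IsPBlock M B) {χ : IrrCharacter G} (hχ : χ ∈ B) :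
    blockHeight p B χ.1 = 0 := by
  refine hz_of_deg hM hB hχ (or_iff_not_imp_left.2 fun h hd => ?_)
  have h0 : charDegree (χ.1 ∘ φ) = charDegree χ.1 := by
    unfold charDegree
    rw [Function.comp_apply, map_one]
  have h1 := deg_sl2 (Characters.Core.isIrr_comp φ hφ χ.2) (h0 ▸ not_not.1 h)
  rw [h0] at h1
  have h2 : charDegree χ.1 ∣ Nat.card G :=
    (H669.Basic.charDegree_dvd_index_center χ.2).trans (Subgroup.index_dvd_card _)
  have h3 := (Nat.mul_dvd_of_dvd_div h2 hd).trans (Subgroup.card_dvd_of_surjective φ hφ)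
  have h4 : 1 ≤ Fintype.card F := Fintype.card_pos
  rw [h1, S0276.card_sl_two rfl] at h3
  have h5 := Nat.dvd_sub (dvd_pow (h1 ▸ not_not.1 h) two_ne_zero) ((Nat.mul_dvd_mul_iff_left h4).1 h3)
  rw [Nat.sub_sub_self (Nat.one_le_pow _ _ h4)] at h5
  exact hp.out.one_lt.ne' (Nat.dvd_one.1 h5)

/-- **abelian Sylow subgroups in the defining characteristic** -/
theorem psl2_of_comm {S : Type*} [Group S] [Finite S] (hS : IsLieTypeChar p S) (P : Sylow p S)
    (hP : IsMulCommutative (P : Subgroup S)) : ∃ (F : Type) (_ : Field F) (_ : Fintype F), CharP F p ∧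
      Nonempty (S ≃* ProjectiveSpecialLinearGroup (Fin 2) F) := by
  have := H400.LieSimple.isSimple_of_lie hS
  by_cases h2 : p = 2
  swap
  · exact by_contra fun h => H858.NRowLie.notAb_of_lie h2 hS h P hP
  subst h2
  have hn := H858.NRowLie.noncomm_of_lie hS
  have h1 : H210.Loc.TI 2 S := by
    by_cases h : Lie.IsoSuzuki S
    · exact H210.Loc.ti_suzuki h
    intro Q R hQ
    refine (Subgroup.eq_bot_iff_forall _).2 fun x hx => by_contra fun h1 => hQ ?_
    exact (H858.NRowLie.isTI_of_comm (H400.LieLocal.local_char_of_lie hS fun h' => h h'.2) P hP).sylow_eq hx.1 hx.2 h1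
  obtain ⟨H, hH⟩ := H44.SEofTI.exists_se hn h1 (H858.NRowLie.dvd_card_of_lie hS)
  obtain ⟨F, _, _, ⟨n, hn, hF⟩, e⟩ := H511.psl_of_concl
    (StrongEmb.Strong.result (by_contra fun h => hn ⟨⟨fun a b => by_contra fun h' => h ⟨a, b, h'⟩⟩⟩) H hH) P hP
  exact ⟨F, inferInstance, inferInstance, charP_of_card_eq_prime_pow hF, e⟩

/-- **abelian Sylow defect groups** -/
theorem hz_syl {S : Type*} [Group S] [Finite S]
    (σ : G →* S) (hG : commutator G = ⊤) (hσ : Function.Surjective σ) (hc : σ.ker ≤ Subgroup.center G)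
    (hS : IsLieTypeChar p S) (hM : IsPModular p M) (hB : IsPBlock M B) (P : Sylow p G)
    (hP : IsMulCommutative (P : Subgroup G)) {χ : IrrCharacter G} (hχ : χ ∈ B) : blockHeight p B χ.1 = 0 := by
  have hz : ¬ p ∣ Nat.card σ.ker := fun h => by
    obtain ⟨z, hz⟩ := exists_prime_orderOf_dvd_card' p h
    exact P.not_dvd_index (hz.symm.dvd.trans (orderOf_dvd_of_pow_eq_one (Subtype.ext
      (S0089.pow_index_eq_one_of_mem (P : Subgroup G) z.1 (hG ▸ Subgroup.mem_top _) (hc z.2)))))
  obtain ⟨F, _, _, _, ⟨e⟩⟩ := psl2_of_comm hS (P.mapSurjective hσ) (by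
    rw [Sylow.coe_mapSurjective]
    infer_instance)
  by_cases h5 : 5 ≤ Fintype.card F
  · let g : Shrink.{0} G ≃* G := Shrink.mulEquiv
    have := Finite.of_equiv _ g.symm.toEquiv
    have h1 : (e.toMonoidHom.comp (σ.comp g.toMonoidHom)).ker = σ.ker.map g.symm.toMonoidHom := by
      ext x
      simp [MonoidHom.mem_ker, Subgroup.mem_map_equiv]
    obtain ⟨φ, hφ, -⟩ := TO.DC.exists_cover (p := p) h5 (σ := e.toMonoidHom.comp (σ.comp g.toMonoidHom))
      (by
        have h2 := map_commutator_eq G g.symm.toMonoidHom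
        rw [hG, ← MonoidHom.range_eq_map, MonoidHom.range_eq_top.2 g.symm.surjective] at h2
        exact h2.symm)
      (e.surjective.comp (hσ.comp g.surjective))
      (by
        rw [h1]
        rintro _ ⟨z, hz, rfl⟩
        exact Subgroup.mem_center_iff.2 fun y => g.injective (by
          simpa using Subgroup.mem_center_iff.1 (hc hz) (g y)))
      (by rwa [h1, Subgroup.card_map_of_injective g.symm.injective])
    exact hz_sl2 (g.toMonoidHom.comp φ) (g.surjective.comp hφ) hM hB hχ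
  have h2 : ¬ p ^ 3 ∣ Nat.card G := fun h => by
    rw [← σ.ker.card_mul_index, Subgroup.index_ker, MonoidHom.range_eq_top.2 hσ, Subgroup.card_top,
      Nat.card_congr e.toEquiv] at h
    have h3 := (((Nat.Prime.coprime_iff_not_dvd hp.out).2 hz).pow_left 3).dvd_of_dvd_mul_left h
    have h4 := h3.trans (Subgroup.card_dvd_of_surjective _ (QuotientGroup.mk'_surjective
      (Subgroup.center (SpecialLinearGroup (Fin 2) F))))
    rw [S0276.card_sl_two rfl] at h4
    obtain ⟨n, -, hn⟩ := FiniteField.card F p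
    have h6 : p ∣ Fintype.card F := by rw [hn]; exact dvd_pow_self p n.ne_zero
    have h7 : 1 < Fintype.card F := Fintype.one_lt_card
    have h8 := Nat.le_of_dvd (by omega) h6
    have h9 := hp.out.two_le
    generalize Fintype.card F = q at *
    have h10 : q ≤ 4 := by omega
    interval_cases q <;> interval_cases p <;> omega
  have h3 : blockDefect p B ≤ 2 := by
    have h4 : (Nat.card G).factorization p < 3 := not_le.1 fun h =>
      h2 ((hp.out.pow_dvd_iff_le_factorization Nat.card_pos.ne').2 h)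
    unfold blockDefect
    omega
  obtain ⟨h6, h7⟩ := (S4710.result p M hM B hB _ rfl).2 χ hχ
  omega

theorem mem_of_map {S : Type*} [Group S] {σ : G →* S} (hc : σ.ker ≤ Subgroup.center G) {H : Subgroup G}
    (hH : IsPGroup p H) (hz : ∀ z ∈ Subgroup.center G, ∀ k, z ^ p ^ k = 1 → z ∈ H) {y : G} {a : ℕ} (hy : y ^ p ^ a = 1)
    (h : σ y ∈ H.map σ) : y ∈ H := by
  obtain ⟨u, hu, e⟩ := h
  obtain ⟨b, hb⟩ := hH ⟨u, hu⟩
  have h1 : u⁻¹ * y ∈ Subgroup.center G := hc (by rw [MonoidHom.mem_ker, map_mul, map_inv, e, inv_mul_cancel])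
  have h2 := Commute.mul_pow (Subgroup.mem_center_iff.1 h1 u) (p ^ (a + b))
  rw [mul_inv_cancel_left, pow_add, pow_mul, hy, one_pow, mul_comm (p ^ a), pow_mul u,
    show u ^ p ^ b = 1 from congrArg Subtype.val hb, one_pow, one_mul, ← pow_add] at h2
  exact (Subgroup.mul_mem_cancel_left H (inv_mem hu)).1 (hz _ h1 _ h2.symm)

theorem mem_sylow (P : Sylow p G) (z : G) (hz : z ∈ Subgroup.center G) (k : ℕ) (h : z ^ p ^ k = 1) :
    z ∈ (P : Subgroup G) := by
  have h1 : IsPGroup p (Subgroup.zpowers z) := fun ⟨_, i, rfl⟩ => ⟨k, Subtype.ext (by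
    show (z ^ i) ^ p ^ k = 1
    rw [← zpow_natCast, ← _root_.zpow_mul, mul_comm, _root_.zpow_mul, zpow_natCast, h, _root_.one_zpow])⟩
  have : (Subgroup.zpowers z).Normal := ⟨fun n hn g => by
    rwa [Subgroup.mem_center_iff.1 (Subgroup.zpowers_le.2 hz hn) g, mul_inv_cancel_right]⟩
  exact h1.le_sylow_of_normal P (Subgroup.mem_zpowers z)

/-- **The defect groups in the defining characteristic are central or Sylow subgroups.** -/
theorem cen_or_syl {S : Type*} [Group S] [Finite S] (σ : G →* S) (hσ : Function.Surjective σ)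
    (hc : σ.ker ≤ Subgroup.center G) (hS : IsLieTypeChar p S) (hM : IsPModular p M) (hB : IsPBlock M B)
    (hD : IsDefectGroup p M B D) : D ≤ Subgroup.center G ∨ ∃ P : Sylow p G, (P : Subgroup G) = D := by
  refine or_iff_not_imp_left.2 fun h0 => ?_
  have h1 : D.map σ ≠ ⊥ := fun h => h0 (((Subgroup.map_eq_bot_iff D).1 h).trans hc)
  have hp' := H400.BlockDefect.isPGroup_defectGroup hD
  obtain ⟨P, hP⟩ := hp'.exists_le_sylow
  obtain ⟨x, hx, ⟨T, hT⟩, hPD⟩ := S0956.result p M hM B hB D hD P hP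
  have h2 : ∀ d ∈ D, x * d = d * x := fun d hd => by
    obtain ⟨z, -, rfl⟩ := hT.ge hd
    exact Subgroup.mem_centralizer_iff.1 z.2 x rfl
  have h3 : ∀ z ∈ Subgroup.center G, ∀ k, z ^ p ^ k = 1 → z ∈ D := fun z hz k h => hT.le
    ⟨⟨z, Subgroup.center_le_centralizer _ hz⟩, mem_sylow T _ (Subgroup.mem_center_iff.2 fun g =>
      Subtype.ext (Subgroup.mem_center_iff.1 hz g)) k (Subtype.ext h), rfl⟩
  have h4 : ∀ y ∈ (P : Subgroup G).map σ, (σ x)⁻¹ * y * σ x ∈ (P : Subgroup G).map σ := by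
    by_cases hz : p = 2 ∧ Lie.IsoSuzuki S
    · obtain ⟨rfl, hz⟩ := hz
      obtain ⟨⟨_, d, hd, rfl⟩, h5⟩ := Subgroup.ne_bot_iff_exists_ne_one.1 h1
      refine H400.LieLocal.ti_of_suzuki hz (P.mapSurjective hσ) (σ x)
        ⟨σ d, ⟨d, hP hd, rfl⟩, fun h => h5 (Subtype.ext h), d, hP hd, ?_⟩
      rw [mul_assoc, ← map_mul, ← h2 d hd, map_mul, inv_mul_cancel_left]
    obtain ⟨V, hV, v1, v2, v3, v4⟩ := H858.NRowLie.exists_par (H400.LieLocal.local_char_of_lie hS hz) (hp'.map σ) h1
    obtain ⟨R', hR⟩ := hV.exists_le_sylow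
    obtain ⟨R, rfl⟩ := Sylow.mapSurjective_surjective hσ p R'
    have h5 : ∀ y a, y ^ p ^ a = 1 → σ y ∈ V → y ∈ V.comap σ ⊓ (R : Subgroup G) := fun y a h h' =>
      ⟨h', mem_of_map hc R.isPGroup' (mem_sylow R) h (hR h')⟩
    have h6 : ∀ g y : G, ∀ a, y ^ p ^ a = 1 → (g * y * g⁻¹) ^ p ^ a = 1 := fun g y a h => by
      rw [conj_pow, h, mul_one, mul_inv_cancel]
    have h7 : ∀ y ∈ V.comap σ ⊓ (R : Subgroup G), y ∈ D := fun y hy => by
      have h8 : y ∈ Subgroup.normalizer (D : Set G) := Subgroup.mem_normalizer_fintype fun d hd => by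
        obtain ⟨a, ha⟩ := hp' ⟨d, hd⟩
        refine mem_of_map hc hp' h3 (h6 y d a (congrArg Subtype.val ha)) ?_
        rw [map_mul, map_mul, map_inv]
        exact (Subgroup.mem_normalizer_iff.1 (v2 hy.1) _).1 ⟨d, hd, rfl⟩
      refine (S0955.result p M hM B hB D hD).le ⟨⟨y, h8⟩, ?_, rfl⟩
      refine (le_sSup (s := {N : Subgroup (Subgroup.normalizer (D : Set G)) | N.Normal ∧ IsPGroup p N})
        (a := (V.comap σ ⊓ (R : Subgroup G)).subgroupOf (Subgroup.normalizer (D : Set G)))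
        ⟨⟨fun n hn g => ?_⟩, (R.isPGroup'.to_le inf_le_right).comap_subtype⟩) hy
      obtain ⟨a, ha⟩ := R.isPGroup' ⟨n, hn.2⟩
      refine h5 _ a (h6 g n a (congrArg Subtype.val ha)) ?_
      show σ (g * n * (g : G)⁻¹) ∈ V
      rw [map_mul, map_mul, map_inv]
      exact (Subgroup.mem_normalizer_iff.1 (v3 (Subgroup.le_normalizer_map σ ⟨g, g.2, rfl⟩)) _).1 hn.1
    have h8 : ∀ v ∈ D.map σ, σ x * v = v * σ x := by
      rintro _ ⟨d, hd, rfl⟩
      rw [← map_mul, h2 d hd, map_mul]
    obtain ⟨a, ha⟩ := hV ⟨σ x, v4 _ (Subgroup.centralizer_le_normalizer _ (Subgroup.mem_centralizer_iff.2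
      fun v hv => (h8 v hv).symm)) fun v hv => by
        obtain ⟨r, hr, rfl⟩ := hR hv
        exact h8 _ ⟨r, h7 r ⟨hv, hr⟩, rfl⟩⟩
    have h9 : σ x = 1 := H666.TI.PElt.eq_one ⟨a, congrArg Subtype.val ha⟩
      (by rw [← map_pow, pow_orderOf_eq_one, map_one]) hx
    intro y hy
    rwa [h9, inv_one, one_mul, mul_one]
  refine ⟨P, hPD ▸ le_antisymm (fun y hy => ⟨hy, x⁻¹ * y * x, ?_, by simp [mul_assoc]⟩) inf_le_left⟩
  obtain ⟨a, ha⟩ := P.isPGroup' ⟨y, hy⟩
  refine mem_of_map hc P.isPGroup' (mem_sylow P) (a := a) ?_ ?_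
  · have h5 := conj_pow (a := x⁻¹) (b := y) (i := p ^ a)
    rwa [inv_inv, show y ^ p ^ a = 1 from congrArg Subtype.val ha, mul_one, inv_mul_cancel] at h5
  · rw [map_mul, map_mul, map_inv]
    exact h4 _ ⟨y, hy, rfl⟩

/-- **The defining characteristic: abelian defect group implies height zero.** -/
theorem own {S : Type*} [Group S] [Finite S]
    (σ : G →* S) (hG : commutator G = ⊤) (hσ : Function.Surjective σ) (hc : σ.ker ≤ Subgroup.center G)
    (hS : IsLieTypeChar p S) (hM : IsPModular p M) (hB : IsPBlock M B) (hD : IsDefectGroup p M B D)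
    (hA : IsMulCommutative D) {χ : IrrCharacter G} (hχ : χ ∈ B) : blockHeight p B χ.1 = 0 := by
  rcases cen_or_syl σ hσ hc hS hM hB hD with h | ⟨P, rfl⟩
  · exact hz_central hM hB hD h
  · exact hz_syl σ hG hσ hc hS hM hB P hA hχ

/-- the same for a quasisimple group -/
theorem kmg {K : Type*} [Group K] [Finite K] (hK : IsQuasisimple K) (hS : IsLieTypeChar p (K ⧸ Subgroup.center K))
    (hM : IsPModular p M) : BK.KMg p M K := fun _ _ hB hD hA _ hχ =>
  own (QuotientGroup.mk' _) hK.1.commutator_eq_top (QuotientGroup.mk'_surjective _) (QuotientGroup.ker_mk' _).le hS hM hB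
    hD hA hχ

end Cfsg.Agent.KM.Own
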