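import Cfsg.Agent.KM.Box
import Cfsg.Agent.KM.Two.Blk2
import Cfsg.Agent.TO.Red
import Cfsg.Agent.TO.CovD
import Cfsg.Agent.H691.Back
import Cfsg.Agent.H95.StemCover
import Cfsg.Agent.Blocks.Over
import Cfsg.Agent.Blocks.PPart

/-!
# KM (S4999): transfer of `KMg` (helper27)

Block level: `up_quot`, `up_norm`, `up_index`, `up_center`.  Boxes: `boxQuot`, `boxNorm`, `boxSc`, `boxMult`, `boxSmall`.
-/

set_option autoImplicit false
set_option linter.unusedSectionVars false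
set_option linter.style.haveILetI false

namespace Cfsg.Agent.KM

open Cfsg Cfsg.Agent.Blocks Cfsg.Agent.KM.BK Cfsg.Agent.H649 Cfsg.Agent.TID.Red

universe u v

variable {l : ℕ} [hl : Fact l.Prime] {M : Ideal AlgInt} {H : Type u} [Group H] [Finite H]

theorem eq_one_of_pg {P U : Subgroup H} (hP : IsPGroup l P) (hU : ¬ l ∣ Nat.card U) {x : H} (h1 : x ∈ P) (h2 : x ∈ U) :
    x = 1 := by
  obtain ⟨n, hn⟩ := IsPGroup.iff_orderOf.1 hP ⟨x, h1⟩
  rw [Subgroup.orderOf_mk] at hn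
  have h3 := U.orderOf_dvd_natCard h2
  rcases n with _ | n
  · exact orderOf_eq_one_iff.1 hn
  · exact absurd ((Dvd.intro_left _ (pow_succ l n).symm).trans (hn ▸ h3)) hU

theorem ab_of_map {K : Type v} [Group K] {φ : H →* K} {P : Subgroup H} (hP : IsPGroup l P) (hU : ¬ l ∣ Nat.card φ.ker)
    (h : Ab (P.map φ)) : Ab P := fun x hx y hy => by
  rw [← mul_inv_eq_one]
  refine eq_one_of_pg hP hU (mul_mem (mul_mem hx hy) (inv_mem (mul_mem hy hx))) ?_
  rw [MonoidHom.mem_ker, map_mul, map_inv, map_mul, map_mul, h _ ⟨x, hx, rfl⟩ _ ⟨y, hy, rfl⟩, mul_inv_cancel]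

theorem up_quot' (hM : IsPModular l M) (U : Subgroup H) [U.Normal] (hU : ¬ l ∣ Nat.card U)
    {b : Set (IrrCharacter (H ⧸ U))} (hb : IsPBlock M b) {D : Subgroup (H ⧸ U)} (hD : IsDefectGroup l M b D) :
    ∃ (B : Set (IrrCharacter H)) (P : Subgroup H), IsPBlock M B ∧ IsDefectGroup l M B P ∧
      P.map (QuotientGroup.mk' U) = D ∧ (HZ l B → HZ l b) := by
  have := Local.isPrime_of_isPModular hM
  obtain ⟨θ, hθ⟩ := Basic.isPBlock_nonempty hb
  have hB : IsPBlock M (blockOf M (H644.CentralQuot.infl U θ : H → ℂ)) := Basic.isPBlock_blockOf _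
  obtain ⟨c, hc, h1, -, h2⟩ := TO.exists_defl hM hB U hU (f := (H644.CentralQuot.infl U θ : H → ℂ))
    ⟨_, Basic.mem_blockOf_self _, rfl⟩ fun n hn => congrArg (θ : H ⧸ U → ℂ) (((QuotientGroup.eq_one_iff n).2 hn).trans rfl)
  have h3 : ∀ ψ : IrrCharacter (H ⧸ U), ψ ∈ c ↔ H644.CentralQuot.infl U ψ ∈ blockOf M (H644.CentralQuot.infl U θ : H → ℂ) :=
    fun ψ => TO.rd_mem_Fn.symm.trans ((h1 ψ).trans (TO.rd_mem_Fn (χ := H644.CentralQuot.infl U ψ)))
  obtain rfl : c = b := Basic.isPBlock_eq_of_mem hc hb ((h3 θ).2 (Basic.mem_blockOf_self _)) hθ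
  obtain ⟨E, hE⟩ := H644.exists_isDefectGroup hM hB
  obtain ⟨x, hx⟩ := conj_defect hM hb (h2 E hE) hD
  obtain ⟨y, rfl⟩ := QuotientGroup.mk'_surjective U x
  refine ⟨_, _, hB, Basic.isDefectGroup_conj hE y, ?_, fun h => eq_iff_hz.1 fun χ hχ ψ hψ => ?_⟩
  · rw [← hx, Subgroup.map_map, Subgroup.map_map]
    rfl
  · rw [← nu_infl U χ, ← nu_infl U ψ]
    exact eq_iff_hz.2 h _ ((h3 χ).1 hχ) _ ((h3 ψ).1 hψ)

/-- **quotients with kernel of order prime to `l`** -/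
theorem up_quot (hM : IsPModular l M) {K : Type v} [Group K] [Finite K] (φ : H →* K) (hφ : Function.Surjective φ)
    (hU : ¬ l ∣ Nat.card φ.ker) {b : Set (IrrCharacter K)} (hb : IsPBlock M b) {D : Subgroup K}
    (hD : IsDefectGroup l M b D) : ∃ (B : Set (IrrCharacter H)) (P : Subgroup H), IsPBlock M B ∧ IsDefectGroup l M B P ∧
      P.map φ = D ∧ (HZ l B → HZ l b) := by
  let e := (QuotientGroup.quotientKerEquivOfSurjective φ hφ).symm
  obtain ⟨B, P, hB, hP, h1, h2⟩ := up_quot' hM φ.ker hU (isPBlock_blkMap (e := e) hb) (isDefectGroup_blkMap (e := e) hD)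
  refine ⟨B, P, hB, hP, ?_, fun h => eq_iff_hz.1 fun χ hχ ψ hψ => ?_⟩
  · have h3 : φ = e.symm.toMonoidHom.comp (QuotientGroup.mk' φ.ker) := rfl
    rw [h3, ← Subgroup.map_map]
    erw [h1]
    rw [Subgroup.map_map]
    exact (congrArg D.map (MonoidHom.ext e.symm_apply_apply)).trans D.map_id
  · have h3 := eq_iff_hz.2 (h2 h) _ (irrMap_mem_blkMap.2 hχ) _ (irrMap_mem_blkMap.2 hψ)
    unfold nu at h3 ⊢
    rwa [charDegree_irrMap, charDegree_irrMap] at h3

/-- **normal subgroups**: a covering block whose defect group meets `N` in an abelian group -/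
theorem up_norm (hM : IsPModular l M) (N : Subgroup H) [hN : N.Normal] {b : Set (IrrCharacter N)} (hb : IsPBlock M b)
    {D : Subgroup N} (hD : IsDefectGroup l M b D) : ∃ (B : Set (IrrCharacter H)) (P : Subgroup H), IsPBlock M B ∧
      IsDefectGroup l M B P ∧ P ⊓ N = D.map N.subtype ∧ ∀ θ ∈ b, ∃ χ ∈ B, Ov N.subtype (χ : H → ℂ) (θ : N → ℂ) := by
  have := Local.isPrime_of_isPModular hM
  letI := Fintype.ofFinite H
  letI := Fintype.ofFinite N
  obtain ⟨θ, hθ⟩ := Basic.isPBlock_nonempty hb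
  obtain ⟨χ, hχ⟩ := Over.exists_over N θ
  have hB : IsPBlock M (blockOf M (χ : H → ℂ)) := Basic.isPBlock_blockOf _
  have h0 := Basic.mem_blockOf_self (M := M) χ
  obtain ⟨E, hE⟩ := H644.exists_isDefectGroup hM hB
  obtain ⟨c, hc, -, ⟨χ', h1, θ', h2, h3⟩, h4⟩ := S4671.result l M hM N _ hB E hE
  obtain ⟨g, ξ, h5, h6⟩ := S0964.result l M hM N _ hB b hb χ h0 θ hθ hχ χ' h1 θ' h3
  let e : N ≃* N := MulAut.conjNormal g
  have h7 : blkMap e c = b := Basic.isPBlock_eq_of_mem (isPBlock_blkMap hc) hb (irrMap_mem_blkMap.2 h2) (by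
    rwa [show irrMap e θ' = ξ from Subtype.ext (funext fun n => by
      rw [irrMap_apply, h6]
      exact congrArg (ξ : N → ℂ) (e.apply_symm_apply n))])
  obtain ⟨x, hx⟩ := conj_defect hM hb (h7 ▸ isDefectGroup_blkMap (e := e) h4) hD
  refine ⟨_, _, hB, Basic.isDefectGroup_conj hE (x * g), ?_, fun ψ hψ => ?_⟩
  · rw [← hx]
    ext y
    constructor
    · rintro ⟨⟨z, hz, rfl⟩, h8⟩
      have h9 : z ∈ N := (TO.Cov.conj_mem_iff N _ z).1 h8
      exact ⟨_, ⟨_, ⟨⟨z, h9⟩, ⟨hz, h9⟩, rfl⟩, rfl⟩, by simp [e, mul_assoc]⟩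
    · rintro ⟨_, ⟨_, ⟨z, hz, rfl⟩, rfl⟩, rfl⟩
      exact ⟨⟨z, hz.1, by simp [e, mul_assoc]⟩, SetLike.coe_mem _⟩
  · obtain ⟨χ', h8, h9⟩ := S4432.result l M hM N _ hB b hb ⟨χ, h0, θ, hθ, hχ⟩ ψ hψ
    exact ⟨χ', h8, (ov_subtype_iff N _ _).2 h9⟩

theorem hz_of_nu {N : Subgroup H} {B : Set (IrrCharacter H)} {b : Set (IrrCharacter N)}
    (h : ∀ θ ∈ b, ∃ χ ∈ B, Ov N.subtype (χ : H → ℂ) (θ : N → ℂ))
    (hd : ∀ (χ : IrrCharacter H) (θ : IrrCharacter N), Ov N.subtype (χ : H → ℂ) (θ : N → ℂ) → nu l χ = nu l θ)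
    (hB : HZ l B) : HZ l b := eq_iff_hz.1 fun θ hθ ψ hψ => by
  obtain ⟨χ, h1, h2⟩ := h θ hθ
  obtain ⟨χ', h3, h4⟩ := h ψ hψ
  rw [← hd _ _ h2, ← hd _ _ h4]
  exact eq_iff_hz.2 hB _ h1 _ h3

theorem nu_of_index {N : Subgroup H} [N.Normal] (hi : ¬ l ∣ N.index) (χ : IrrCharacter H) (θ : IrrCharacter N)
    (hθ : Ov N.subtype (χ : H → ℂ) (θ : N → ℂ)) : nu l χ = nu l θ := by
  letI := Fintype.ofFinite H
  letI := Fintype.ofFinite N
  obtain ⟨⟨m, hm⟩, h2⟩ := S0887.result N χ χ.2 θ θ.2 ((ov_subtype_iff N _ _).1 hθ) _ _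
    (Basic.irr_one_eq_charDegree χ.2) (Basic.irr_one_eq_charDegree θ.2)
  have h3 := Basic.charDegree_pos θ.2
  rw [hm, Nat.mul_div_cancel_left _ h3] at h2
  have h4 : m ≠ 0 := by
    rintro rfl
    exact (Basic.charDegree_pos χ.2).ne' hm
  unfold nu
  rw [hm, Nat.factorization_mul h3.ne' h4, Finsupp.add_apply,
    Nat.factorization_eq_zero_of_not_dvd (fun h5 => hi (h5.trans h2)), add_zero]

theorem nu_of_center {N : Subgroup H} (hN : N ⊔ Subgroup.center H = ⊤) (χ : IrrCharacter H) (θ : IrrCharacter N)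
    (hθ : Ov N.subtype (χ : H → ℂ) (θ : N → ℂ)) : nu l χ = nu l θ := by
  letI := Fintype.ofFinite H
  letI := Fintype.ofFinite N
  have h1 := H691.Back.isIrr_restrict N hN χ.2
  have h2 : (χ : H → ℂ) ∘ N.subtype = θ := by
    by_contra h
    exact (ov_subtype_iff N _ _).1 hθ (Characters.Core.classInner_irr_ne h1 θ.2 h)
  unfold nu charDegree
  rw [← h2]
  rfl

theorem le_of_index {N P : Subgroup H} [N.Normal] (hi : ¬ l ∣ N.index) (hP : IsPGroup l P) : P ≤ N := fun x hx => by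
  have h1 := eq_one_of_pg (H := H ⧸ N) (hP.map (QuotientGroup.mk' N)) (U := ⊤) (by rwa [Subgroup.card_top])
    ⟨x, hx, rfl⟩ (Subgroup.mem_top _)
  exact (QuotientGroup.eq_one_iff x).1 h1

/-- **index prime to `l`** -/
theorem up_index (hM : IsPModular l M) (N : Subgroup H) [N.Normal] (hi : ¬ l ∣ N.index) {b : Set (IrrCharacter N)}
    (hb : IsPBlock M b) {D : Subgroup N} (hD : IsDefectGroup l M b D) :
    ∃ B : Set (IrrCharacter H), IsPBlock M B ∧ IsDefectGroup l M B (D.map N.subtype) ∧ (HZ l B → HZ l b) := by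
  obtain ⟨B, P, hB, hP, h1, h2⟩ := up_norm hM N hb hD
  rw [inf_eq_left.2 (le_of_index hi (H592.Defect.isPGroup_of_isDefectGroup hP))] at h1
  exact ⟨B, hB, h1 ▸ hP, hz_of_nu h2 (nu_of_index hi)⟩

theorem normal_of_sup_center {N : Subgroup H} (hN : N ⊔ Subgroup.center H = ⊤) : N.Normal := ⟨fun n hn g => by
  obtain ⟨a, ha, z, hz, rfl⟩ := Subgroup.mem_sup_of_normal_right.1 (hN ▸ Subgroup.mem_top g)
  rw [show a * z * n * (a * z)⁻¹ = a * n * a⁻¹ by rw [mul_assoc a z n, ← Subgroup.mem_center_iff.1 hz n]; group]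
  exact mul_mem (mul_mem ha hn) (inv_mem ha)⟩

/-- a defect group is generated by its intersection with `N` and central elements -/
theorem exists_cen {N : Subgroup H} (hN : N ⊔ Subgroup.center H = ⊤) {B : Set (IrrCharacter H)} {P : Subgroup H}
    (hP : IsDefectGroup l M B P) {x : H} (hx : x ∈ P) : ∃ a ∈ P ⊓ N, ∃ z ∈ Subgroup.center H, x = a * z := by
  obtain ⟨a, ha, z, hz, rfl⟩ := Subgroup.mem_sup_of_normal_right.1 (hN ▸ Subgroup.mem_top x)
  obtain ⟨j, hj⟩ := IsPGroup.iff_orderOf.1 (H592.Defect.isPGroup_of_isDefectGroup hP) ⟨_, hx⟩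
  rw [Subgroup.orderOf_mk] at hj
  obtain ⟨n, m, hm, h1⟩ := Nat.exists_eq_pow_mul_and_not_dvd (Nat.card_pos (α := H)).ne' l hl.out.ne_one
  obtain ⟨r, hr⟩ := exists_pow_eq_self_of_coprime (x := a * z) (n := m) (by
    rw [hj]; exact (Nat.Coprime.pow_left j ((Nat.Prime.coprime_iff_not_dvd hl.out).2 hm)).symm)
  have h2 : Commute a z := Subgroup.mem_center_iff.1 hz a
  have h3 : (z ^ m) ^ r ∈ P := TO.Cov.le_defect hP (U := Subgroup.zpowers ((z ^ m) ^ r))
    (IsPGroup.of_card_dvd_pow (n := n) (by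
      rw [Nat.card_zpowers, orderOf_dvd_iff_pow_eq_one, ← pow_mul, ← pow_mul, show m * (r * l ^ n) = l ^ n * m * r by ring,
        ← h1, pow_mul, pow_card_eq_one', one_pow]))
    (Subgroup.zpowers_le.2 (pow_mem (pow_mem hz m) r)) (Subgroup.mem_zpowers _)
  rw [h2.mul_pow, ((h2.pow_left m).pow_right m).mul_pow] at hr
  exact ⟨(a ^ m) ^ r, ⟨(P.mul_mem_cancel_right h3).1 (hr ▸ hx), pow_mem (pow_mem ha m) r⟩, _,
    pow_mem (pow_mem hz m) r, hr.symm⟩

/-- **supplements of the centre** -/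
theorem up_center (hM : IsPModular l M) (N : Subgroup H) (hN : N ⊔ Subgroup.center H = ⊤) {b : Set (IrrCharacter N)}
    (hb : IsPBlock M b) {D : Subgroup N} (hD : IsDefectGroup l M b D) :
    ∃ (B : Set (IrrCharacter H)) (P : Subgroup H), IsPBlock M B ∧ IsDefectGroup l M B P ∧ P ⊓ N = D.map N.subtype ∧
      (Ab D → Ab P) ∧ (HZ l B → HZ l b) := by
  have := normal_of_sup_center hN
  obtain ⟨B, P, hB, hP, h1, h2⟩ := up_norm hM N hb hD
  refine ⟨B, P, hB, hP, h1, fun hA x hx y hy => ?_, hz_of_nu h2 (nu_of_center hN)⟩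
  obtain ⟨a, ha, z, hz, rfl⟩ := exists_cen hN hP hx
  obtain ⟨a', ha', z', hz', rfl⟩ := exists_cen hN hP hy
  have h3 : Commute a a' := hA.map N.subtype a (h1 ▸ ha) a' (h1 ▸ ha')
  have h4 : ∀ g, Commute g z := fun g => Subgroup.mem_center_iff.1 hz g
  have h5 : ∀ g, Commute g z' := fun g => Subgroup.mem_center_iff.1 hz' g
  exact (h3.mul_left (h4 a').symm).mul_right (h5 _)

theorem kmg_equiv (hM : IsPModular l M) {K : Type v} [Group K] [Finite K] (e : H ≃* K) (h : KMg l M H) : KMg l M K :=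
  pp_iff.1 (PP.of_equiv hM e (pp_iff.2 h))

theorem kmg_quot (hM : IsPModular l M) {K : Type v} [Group K] (φ : H →* K) (hφ : Function.Surjective φ)
    (hU : ¬ l ∣ Nat.card φ.ker) (h : KMg l M H) : KMg l M K := fun b D hb hD hA => by
  have := Finite.of_surjective φ hφ
  obtain ⟨B, P, hB, hP, rfl, h2⟩ := up_quot hM φ hφ hU hb hD
  exact h2 (h B P hB hP (ab_iff.1 (ab_of_map (H592.Defect.isPGroup_of_isDefectGroup hP) hU (ab_iff.2 hA))))

theorem kmg_index (hM : IsPModular l M) (N : Subgroup H) [N.Normal] (hi : ¬ l ∣ N.index) (h : KMg l M H) : KMg l M N :=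
  fun b D hb hD hA => by
    obtain ⟨B, hB, h1, h2⟩ := up_index hM N hi hb hD
    exact h2 (h B _ hB h1 (ab_iff.1 ((ab_iff.2 hA).map _)))

theorem kmg_center (hM : IsPModular l M) (N : Subgroup H) (hN : N ⊔ Subgroup.center H = ⊤) (h : KMg l M H) :
    KMg l M N := fun b D hb hD hA => by
  obtain ⟨B, P, hB, hP, -, h1, h2⟩ := up_center hM N hN hb hD
  exact h2 (h B P hB hP (ab_iff.1 (h1 (ab_iff.2 hA))))

theorem kmg_norm (hM : IsPModular l M) (N : Subgroup H) [N.Normal] (hi : ¬ l ∣ (N ⊔ Subgroup.center H).index)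
    (h : KMg l M H) : KMg l M N := by
  refine kmg_equiv hM (Subgroup.subgroupOfEquivOfLe (le_sup_left : N ≤ N ⊔ Subgroup.center H))
    (kmg_center hM _ (top_le_iff.1 fun x _ => ?_) (kmg_index hM _ hi h))
  obtain ⟨a, ha, z, hz, h1⟩ := Subgroup.mem_sup_of_normal_right.1 x.2
  rw [show x = ⟨a, Subgroup.mem_sup_left ha⟩ * ⟨z, Subgroup.mem_sup_right hz⟩ from Subtype.ext h1.symm]
  exact Subgroup.mul_mem_sup ha (Subgroup.mem_center_iff.2 fun g => Subtype.ext (Subgroup.mem_center_iff.1 hz g))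

theorem boxQuot : BoxQuot := fun _ _ _ hM _ _ _ _ _ φ hφ hU => kmg_quot hM φ hφ hU

theorem boxNorm : BoxNorm := fun _ _ _ hM _ K _ _ _ ι hι _ hi h => by
  have := Finite.of_injective ι hι
  exact kmg_equiv hM (MonoidHom.ofInjective hι).symm (kmg_norm hM _ hi h)

theorem ker_le_of {K S : Type*} [Group K] [Group S] {π : H →* S} {σ : K →* S} {ψ : H →* K} (h : ∀ s, σ (ψ s) = π s) :
    ψ.ker ≤ π.ker := fun x hx => by rw [MonoidHom.mem_ker, ← h, show ψ x = 1 from hx, map_one]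

theorem boxSc : BoxSc := fun l _ r H S _ _ _ π hr hk hc A _ hA hr' h => Row.of_kmg fun K _ _ σ M hM hK hσ hσk _ => by
  have h1 := H95.StemCover.card_ker_dvd hA hK.1.commutator_eq_top σ hσ hσk.le
  obtain ⟨ψ, hψ, h2⟩ := hc K hK (fun h2 => hr' (h2.trans (hσk ▸ h1)))
    ((QuotientGroup.quotientMulEquivOfEq hσk.symm).trans (QuotientGroup.quotientKerEquivOfSurjective σ hσ))
  exact kmg_quot hM ψ hψ (fun h3 => hk (h3.trans (Subgroup.card_dvd_of_le (ker_le_of (σ := σ) h2)))) (h M hM)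

open Cfsg.Agent.H95.StemCover in
/-- a stem extension whose kernel has the full `l'`-part of the multiplier covers the `l'`-extensions -/
theorem cover_of_mult {T T' S : Type} [Group T] [Group T'] [Group S] [Finite T] [Finite T'] (hS : commutator S = ⊤)
    {A : Type} [CommGroup A] (hA : HasSchurMultiplier S A) {τ : T →* S} (hτ : IsStemExtension τ) {ρ : T' →* S}
    (hρ : IsStemExtension ρ) (h1 : ¬ l ∣ Nat.card τ.ker) (h2 : ¬ l ∣ Nat.card ρ.ker) {a : ℕ}
    (hd : Nat.card A ∣ Nat.card τ.ker * l ^ a) : ∃ ψ : T →* T', Function.Surjective ψ ∧ ∀ x, ρ (ψ x) = τ x := by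
  have := Finite.of_surjective τ hτ.1
  refine exists_of_injective hS hτ hρ ?_
  have hst := stem_EE hS hτ.1 hρ.1 hτ.2.1 hρ.2.1
  have h3 : Nat.card (τ.comp (pΓ τ ρ)).ker ∣ Nat.card A :=
    card_ker_dvd hA (commutator_EE hS hτ.1 hρ.1 hτ.2.1 hρ.2.1) _ hst.1 hst.2.1
  have h4 : Nat.card (τ.comp (pΓ τ ρ)).ker ∣ Nat.card τ.ker * Nat.card ρ.ker := by
    rw [← Nat.card_prod]
    refine Subgroup.card_dvd_of_injective (MonoidHom.prod
      (((pΓ τ ρ).comp (Subgroup.subtype _)).codRestrict τ.ker fun x => x.2)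
      (((pP τ ρ).comp (Subgroup.subtype _)).codRestrict ρ.ker fun x => (comp_eq x.1).symm.trans x.2)) fun x y h => ?_
    exact Subtype.ext (Subtype.ext (Prod.ext (congrArg (fun z => z.1.1) h) (congrArg (fun z => z.2.1) h)))
  have h5 : (Nat.card (τ.comp (pΓ τ ρ)).ker).Coprime (l ^ a) :=
    Nat.Coprime.pow_right _ ((Nat.Prime.coprime_iff_not_dvd hl.out).2 fun h =>
      ((Nat.Prime.dvd_mul hl.out).1 (h.trans h4)).elim h1 h2).symm
  have h6 : Nat.card (τ.comp (pΓ τ ρ)).ker ≤ Nat.card τ.ker :=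
    Nat.le_of_dvd Nat.card_pos (h5.dvd_of_dvd_mul_right (h3.trans hd))
  have h7 : Nat.card (EE τ ρ) = Nat.card (τ.comp (pΓ τ ρ)).ker * Nat.card S := by
    rw [← Subgroup.card_mul_index (τ.comp (pΓ τ ρ)).ker, Subgroup.index_ker, MonoidHom.range_eq_top.2 hst.1,
      Subgroup.card_top]
  have h8 : Nat.card T = Nat.card τ.ker * Nat.card S := by
    rw [← Subgroup.card_mul_index τ.ker, Subgroup.index_ker, MonoidHom.range_eq_top.2 hτ.1, Subgroup.card_top]
  have hsurj := pΓ_surj (σ := τ) (π := ρ) hS hτ hρ.1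
  refine ((Nat.bijective_iff_surjective_and_card _).2 ⟨hsurj, le_antisymm ?_ ?_⟩).1
  · rw [h7, h8]
    exact Nat.mul_le_mul_right _ h6
  · exact Nat.card_le_card_of_surjective _ hsurj

/-- the cover `K` of a row is a quotient of `T` -/
theorem Hyp.exists_quot {T S K : Type} [Group T] [Group S] [Group K] [Finite T] [Finite K] {B : Set (IrrCharacter K)}
    {D : Subgroup K} {σ : K →* S} (h : Hyp l M B D σ) {π : T →* S} (hπ : Function.Surjective π)
    (hc : π.ker ≤ Subgroup.center T) (hT : commutator T = ⊤) (hk : ¬ l ∣ Nat.card π.ker) {A : Type} [CommGroup A] {a : ℕ}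
    (hA : HasSchurMultiplier S A) (hd : Nat.card A ∣ Nat.card π.ker * l ^ a) :
    ∃ ψ : T →* K, Function.Surjective ψ ∧ (∀ x, σ (ψ x) = π x) ∧ ¬ l ∣ Nat.card ψ.ker := by
  obtain ⟨ψ, h1, h2⟩ := cover_of_mult (l := l) (by
      rw [commutator_def, ← MonoidHom.range_eq_top.2 hπ, MonoidHom.range_eq_map, ← Subgroup.map_commutator,
        ← commutator_def, hT]) hA (H95.StemCover.isStem hT hπ hc)
    (H95.StemCover.isStem h.qs.1.commutator_eq_top h.surj h.ker.le) hk (h.ker ▸ h.zp) hd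
  exact ⟨ψ, h1, h2, fun h3 => hk (h3.trans (Subgroup.card_dvd_of_le (ker_le_of h2)))⟩

theorem boxMult : BoxMult := fun l _ H S _ _ _ π hπ hc hT hk A _ a hA hd h K _ _ σ M B D h1 => by
  obtain ⟨ψ, h2, -, h3⟩ := h1.exists_quot hπ hc hT hk hA hd
  exact kmg_quot h1.hM ψ h2 h3 (h M h1.hM) B D h1.hB h1.hD h1.ab

section small

variable {K S : Type} [Group K] [Group S] [Finite K] {B : Set (IrrCharacter K)} {D : Subgroup K} {σ : K →* S}

theorem Hyp.pg (h : Hyp l M B D σ) : IsPGroup l D := H592.Defect.isPGroup_of_isDefectGroup h.hD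

theorem Hyp.card (h : Hyp l M B D σ) : Nat.card D = l ^ blockDefect l B := S0908.result l M h.hM B h.hB D h.hD

theorem Hyp.inj (h : Hyp l M B D σ) : Function.Injective (σ.subgroupMap D) :=
  (injective_iff_map_eq_one _).2 fun x hx => Subtype.ext (eq_one_of_pg h.pg h.zp x.2 (h.ker ▸ congrArg Subtype.val hx))

/-- the defect group is isomorphic to its image -/
noncomputable def Hyp.eqv (h : Hyp l M B D σ) : D ≃* D.map σ :=
  MulEquiv.ofBijective _ ⟨h.inj, σ.subgroupMap_surjective D⟩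

theorem Hyp.card_map (h : Hyp l M B D σ) : Nat.card (D.map σ) = Nat.card D := (Nat.card_congr h.eqv.toEquiv).symm

theorem Hyp.cube_dvd (h : Hyp l M B D σ) : l ^ 3 ∣ Nat.card (D.map σ) := by
  rw [h.card_map, h.card]
  exact pow_dvd_pow l h.big

theorem Hyp.not_cyc (h : Hyp l M B D σ) : ¬ IsCyclic (D.map σ) := fun _ =>
  h.nc (isCyclic_of_surjective h.eqv.symm h.eqv.symm.surjective)

theorem Hyp.hz_or (h : Hyp 2 M B D σ) : HZ 2 B ∨ 32 ∣ Nat.card (D.map σ) := by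
  have : Fact (Nat.Prime 2) := ⟨Nat.prime_two⟩
  by_cases h1 : 5 ≤ blockDefect 2 B
  · exact Or.inr (by rw [h.card_map, h.card]; exact pow_dvd_pow 2 h1)
  · exact Or.inl (Two.hz_small h.hM h.hB h.hD (ab_iff.2 h.ab) (by
      rw [h.card]; exact Nat.pow_le_pow_right two_pos (by omega : _ ≤ 4)))

end small

theorem boxSmall : BoxSmall := fun l _ S _ _ h K _ _ σ M B D h1 => by
  rcases h with h | ⟨rfl, h⟩ | h
  · exact absurd (h1.cube_dvd.trans (Subgroup.card_subgroup_dvd_card _)) h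
  · exact h1.hz_or.resolve_right fun h2 => h (h2.trans (Subgroup.card_subgroup_dvd_card _))
  · obtain ⟨P, hP⟩ := (h1.pg.map σ).exists_le_sylow
    have := h P
    exact absurd (Subgroup.isCyclic_of_le hP) h1.not_cyc

end Cfsg.Agent.KM
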