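import Cfsg.Agent.KM.Defs
import Cfsg.Agent.KM.Deg.Defs
import Cfsg.Agent.KZ.DatX.Three
import Cfsg.Agent.KZ.Dat.GlD
import Cfsg.Agent.KZ.Dat.SpD
import Cfsg.Agent.KZ.Dat.OmD
import Cfsg.Agent.H70.SzAutThm

/-!
# KM: the level of the Frobenius map and the frames in all characteristics (helper22)

* `nt_mx` : `Deg.NT` from the matrix; `nt_L nt_U nt_C nt_B nt_P nt_M` (classical data), `nt_X` (frames);
* `HasNT hp r Mx d S`, `has_G2 … has_3D4`, `row_G2 … row_3D4` (from `CG2 … CTd4`);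
* `HasSq hp r Mx e S` (`F ^ 2` is the Frobenius map of level `e`), `has_2B2 has_2G2 has_2F4`, `row_2B2 row_2G2 row_2F4`.
-/

set_option autoImplicit false
set_option linter.unusedSectionVars false

namespace Cfsg.Agent.KM.Nt

open CoxeterSystem Cfsg Cfsg.Lie Cfsg.Lie.ChevalleyDatum Matrix
open Cfsg.Agent.ChevalleyStructure Cfsg.Agent.ChevalleyStructure.Elts Cfsg.Agent.ChevalleyStructure.CoxeterGeom
  Cfsg.Agent.ChevalleyStructure.CoxeterGeomTypes Cfsg.Agent.ChevalleyStructure.NPerm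
open Cfsg.Agent.Tits.Roots Cfsg.Agent.Nodes Cfsg.Agent.Nodes.RGDChev Cfsg.Agent.Nodes.BNOf
open Cfsg.Agent.KFacts.RgdChevCoord Cfsg.Agent.BpExc.TowChev Cfsg.Agent.GpExc.Field Cfsg.Agent.BpExc
  Cfsg.Agent.BpExc.TorChev
open Cfsg.Agent.DL Cfsg.Agent.DL.Ex Cfsg.Agent.DL.PP Cfsg.Agent.DL.Uni Cfsg.Agent.KZ.Lie Cfsg.Agent.KZ.DatX

section Gen

variable {p : ℕ} [Fact p.Prime] {k : Type} [Field k] [CharP k p] {Y : Type} [Group Y] {N : Type} [Fintype N]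
  [DecidableEq N] {ρ : Y →* GL N k} {F : MulAut Y} {G : Subgroup Y} [IsAlgClosed k] (D : Datum p ρ F G)

/-- the level of the Frobenius map from the matrix -/
theorem nt_mx [Nonempty D.R] {a n : ℕ} {B : Matrix D.R D.R ℤ} (ha : 0 < a) (hB : B ^ a = 1) (h : D.Mx = (p : ℤ) ^ n • B) :
    Deg.NT p ρ F := by
  obtain ⟨d, e, H⟩ := D.exists_split'
  have h1 : ((p : ℤ) ^ (e * a)) • (1 : Matrix D.R D.R ℤ) = ((p : ℤ) ^ (n * d * a)) • (1 : Matrix D.R D.R ℤ) := by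
    have h2 := congrArg (· ^ a) (D.Mx_pow H)
    simp only [h, _root_.smul_pow, one_pow, ← pow_mul] at h2
    rw [← h2, mul_comm d a, pow_mul B, hB, one_pow, mul_assoc, mul_comm d a]
  have h2 := smul_left_injective ℤ (one_ne_zero (α := Matrix D.R D.R ℤ)) h1
  have h3 : e = n * d := Nat.eq_of_mul_eq_mul_right ha
    (Nat.pow_right_injective (Fact.out : p.Prime).two_le (by exact_mod_cast h2))
  exact ⟨n, d, Nat.pos_of_mul_pos_right (h3 ▸ H.e_pos), H.d_pos, h3 ▸ H.frob⟩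

end Gen

/-! ### the classical data -/

section Cl

open Cfsg.Agent.KZ.Dat Cfsg.Agent.KZ.Dat.Om Cfsg.Agent.ODD.C2 Cfsg.Agent.ODD.C2.GlA

variable {p : ℕ} [Fact p.Prime] {k : Type} [Field k] [CharP k p] [IsAlgClosed k]
  (hk : ∀ a : k, ∃ j, 0 < j ∧ a ^ p ^ j = a) {e : ℕ} (he : 0 < e)
include hk he

theorem nt_L (n : ℕ) : Deg.NT p (MonoidHom.id (GL (Fin (n + 1)) k)) (1 * frP _ p k e) :=
  have : Nonempty (datL n hk he).R := ⟨(0 : Fin (n + 1))⟩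
  nt_mx (datL n hk he) one_pos (one_pow 1) (datL_Mx n hk he)

theorem nt_U (n : ℕ) : Deg.NT p (MonoidHom.id (GL (Fin (n + 1)) k)) (γA n k * frP _ p k e) :=
  have : Nonempty (datU n hk he).R := ⟨(0 : Fin (n + 1))⟩
  nt_mx (datU n hk he) two_pos ((sq _).trans BA_BA) (datU_Mx n hk he)

theorem nt_C {n : ℕ} (hn : 0 < n) : Deg.NT p (MonoidHom.id (GL (Fin n × Bool) k)) (FC n k p e) :=
  have : Nonempty (datC n hk he).R := ⟨(⟨0, hn⟩ : Fin n)⟩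
  nt_mx (datC n hk he) one_pos (one_pow 1) (datC_Mx hk he)

theorem nt_B {m : ℕ} (hm : 0 < m) (h2 : (2 : k) ≠ 0) : Deg.NT p (MonoidHom.id _) ((osB m).sy_id.F k p e) :=
  have : Nonempty (datB m h2 hk he).R := ⟨(⟨0, hm⟩ : Fin m)⟩
  nt_mx (datB m h2 hk he) one_pos (one_pow 1) (datB_Mx h2 hk he)

theorem nt_P (n : ℕ) : Deg.NT p (MonoidHom.id _) ((osD n).sy_id.F k p e) :=
  have : Nonempty (datP n hk he).R := ⟨(0 : Fin (n + 2))⟩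
  nt_mx (datP n hk he) one_pos (one_pow 1) (datP_Mx hk he)

theorem nt_M (n : ℕ) : Deg.NT p (MonoidHom.id _) ((syD n).F k p e) :=
  have : Nonempty (datM n hk he).R := ⟨(0 : Fin (n + 2))⟩
  nt_mx (datM n hk he) two_pos ((sq _).trans (BD_mul n)) (datM_Mx hk he)

end Cl

/-! ### the frames -/

section Fr

variable {C : ChevalleyDatum} {l : ℕ} {M : CoxeterMatrix (Fin l)} {hp : IsType C l M} {r : ℕ} [Fact r.Prime]

theorem nt_X {k : Type} [Field k] [CharP k r] [IsAlgClosed k] {e a : ℕ} {B : Matrix (Fin l) (Fin l) ℤ}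
    (X : XF hp r k ((r : ℤ) ^ e • B)) (hl : 0 < l) (ha : 0 < a) (hB : B ^ a = 1) : Deg.NT r (C.group k).subtype X.F :=
  have : Nonempty X.D.R := ⟨(⟨0, hl⟩ : Fin l)⟩
  nt_mx X.D ha hB X.D_Mx

variable (hp r) in
/-- a frame for `S` whose Steinberg endomorphism has an integral level (`X.D_qs : X.D.QS`, `s.ov : Over …`) -/
def HasNT (Mx : Matrix (Fin l) (Fin l) ℤ) (d : ℕ) (S : Type) [Group S] : Prop :=
  ∃ (k : Type) (_ : Field k) (_ : CharP k r) (_ : IsAlgClosed k) (X : XF hp r k Mx),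
    Deg.NT r (C.group k).subtype X.F ∧ Nonempty (XS X (fun _ => True) d S)

variable (hp r) in
/-- a frame for `S = G ^ F` with `F ^ 2` the Frobenius map of level `e` -/
def HasSq (Mx : Matrix (Fin l) (Fin l) ℤ) (e : ℕ) (S : Type) [Group S] : Prop :=
  ∃ (k : Type) (_ : Field k) (_ : CharP k r) (_ : IsAlgClosed k) (X : XF hp r k Mx),
    (∀ y, (C.group k).subtype ((X.F ^ 2) y) = LangThm.frob r e ((C.group k).subtype y)) ∧ Nonempty (XS X (AdmF r) 1 S)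

variable {S S' : Type} [Group S] [Group S'] {Mx : Matrix (Fin l) (Fin l) ℤ} {d : ℕ}

theorem HasNT.congr (h : HasNT hp r Mx d S) (i : S' ≃* S) : HasNT hp r Mx d S' := by
  obtain ⟨k, _, _, _, X, h, ⟨s⟩⟩ := h
  exact ⟨k, _, _, _, X, h, ⟨s.congr i⟩⟩

theorem HasSq.congr (h : HasSq hp r Mx d S) (i : S' ≃* S) : HasSq hp r Mx d S' := by
  obtain ⟨k, _, _, _, X, h, ⟨s⟩⟩ := h
  exact ⟨k, _, _, _, X, h, ⟨s.congr i⟩⟩

theorem hasNT_of {e a : ℕ} {B : Matrix (Fin l) (Fin l) ℤ} {Adm : Matrix (Fin l) (Fin l) ℤ → Prop}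
    (h : Has hp r ((r : ℤ) ^ e • B) Adm d S) (hl : 0 < l) (ha : 0 < a) (hB : B ^ a = 1) :
    HasNT hp r ((r : ℤ) ^ e • B) d S := by
  obtain ⟨k, _, _, _, X, ⟨s⟩⟩ := h
  exact ⟨k, _, _, _, X, nt_X X hl ha hB, ⟨s.mono fun _ _ => trivial⟩⟩

end Fr

theorem P6_sq : P6 ^ 2 = 1 := by rw [P6_eq]; decide

theorem P4_cube : P4 ^ 3 = 1 := by rw [P4_eq]; decide

section Has

variable {r : ℕ} [Fact r.Prime] {F : Type} [Field F] [Fintype F] [CharP F r] {e : ℕ}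

theorem has_G2 (hF : Fintype.card F = r ^ e) (hq : 3 ≤ Fintype.card F) :
    HasNT hpG2 r ((r : ℤ) ^ e • 1) 1 ↥(chevG2.group F) := by
  by_cases h : r = 3
  · subst h
    exact hasNT_of (has_G2three hF) two_pos one_pos (one_pow 1)
  · exact hasNT_of (KZ.DatX.has_G2 hF h hq) two_pos one_pos (one_pow 1)

theorem has_F4 (hF : Fintype.card F = r ^ e) : HasNT hpF4 r ((r : ℤ) ^ e • 1) 1 ↥(chevF4.group F) := by
  by_cases h : r = 2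
  · subst h
    exact hasNT_of (has_F4two hF) four_pos one_pos (one_pow 1)
  · exact hasNT_of (KZ.DatX.has_F4 hF h) four_pos one_pos (one_pow 1)

theorem has_E6 (hF : Fintype.card F = r ^ e) : HasNT hpE6 r ((r : ℤ) ^ e • 1) (Nat.gcd 3 (r ^ e - 1)) ↥(chevE6.group F) :=
  hasNT_of (KZ.DatX.has_E6 hF) (by decide) one_pos (one_pow 1)

theorem has_E7 (hF : Fintype.card F = r ^ e) : HasNT hpE7 r ((r : ℤ) ^ e • 1) (Nat.gcd 2 (r ^ e - 1)) ↥(chevE7.group F) :=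
  hasNT_of (KZ.DatX.has_E7 hF) (by decide) one_pos (one_pow 1)

theorem has_E8 (hF : Fintype.card F = r ^ e) : HasNT hpE8 r ((r : ℤ) ^ e • 1) 1 ↥(chevE8.group F) :=
  hasNT_of (KZ.DatX.has_E8 hF) (by decide) one_pos (one_pow 1)

theorem has_D4 (hF : Fintype.card F = r ^ e) : HasNT hpD4 r ((r : ℤ) ^ e • 1) (Nat.gcd 2 (r ^ e - 1)) ↥(chevD4.group F) :=
  hasNT_of (KZ.DatX.has_D4 hF) four_pos one_pos (one_pow 1)

theorem has_2E6 (hK : Fintype.card F = (r ^ e) ^ 2) :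
    HasNT hpE6 r ((r : ℤ) ^ e • P6) (Nat.gcd 3 (r ^ e + 1)) ↥(twistedE6 F (r ^ e)) :=
  hasNT_of (KZ.DatX.has_2E6 hK) (by decide) two_pos P6_sq

theorem has_3D4 (hK : Fintype.card F = (r ^ e) ^ 3) : HasNT hpD4 r ((r : ℤ) ^ e • P4) 1 ↥(twistedD4 F (r ^ e)) :=
  hasNT_of (KZ.DatX.has_3D4 hK) four_pos three_pos P4_cube

end Has

theorem has_2F4 {K : Type} [Field K] [Fintype K] {m : ℕ} (hm : 1 ≤ m) (hK : Fintype.card K = 2 ^ (2 * m + 1)) :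
    HasSq hpF4 2 ((2 : ℤ) ^ m • GamF) (2 * m + 1) ↥(twistedF4 K (2 ^ m)) := by
  obtain ⟨_, _, hk⟩ := Tw.setup' Nat.prime_two (Nat.succ_ne_zero _) hK
  have O : Over (Tw.steA (AlgebraicClosure K) m) ⊤ (TT chevF4 _) (H759.TwF.eF m (algebraMap K _)) 1 := by
    refine over_of_range (H759.TwF.eF_injective _) (le_antisymm ?_ fun y hy => H759.TwF.exists_eF hK _ hy.2)
      (TT_comm hpF4) le_top
    rintro _ ⟨s, rfl⟩
    exact ⟨trivial, H759.TwF.ste_eF hK _ s⟩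
  refine ⟨AlgebraicClosure K, _, _, _, _, fun y => ?_, ⟨xsT hk ((Tw.spc_F4 m).amb (Tw.spcD_F4 m) hk (Nat.succ_pos _)) (gdF _ m)
    (pm_add 2 piF m _) O (Nat.coprime_one_left _) (fun _ => idx_of_one O rfl) fun σ => ?_⟩⟩
  · exact congrArg _ ((Tw.spc_F4 m).sq (Tw.spcD_F4 m) y)
  obtain ⟨g, τ, rfl⟩ := H71.FldAut.twF4_aut hm hK σ
  obtain ⟨j, hj⟩ := exists_frob 2 τ
  refine ⟨_, (O.mem g).2, j, fun s => (conj_hom _ g _ s).trans ?_⟩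
  congr 2
  exact frob_eq (hp := hpF4) _ hj rfl rfl

theorem has_2G2 {K : Type} [Field K] [Fintype K] {m : ℕ} (hm : 1 ≤ m) (hK : Fintype.card K = 3 ^ (2 * m + 1)) :
    HasSq hpG2 3 ((3 : ℤ) ^ m • GamG) (2 * m + 1) ↥(twistedG2 K (3 ^ m)) := by
  obtain ⟨_, _, hk⟩ := Tw.setup' Nat.prime_three (Nat.succ_ne_zero _) hK
  have E := Tw.emb_G2 (algebraMap K (AlgebraicClosure K)) hK
  have O : Over (Tw.reeA (AlgebraicClosure K) m) ⊤ (TT chevG2 _) (Tw.embG2 (algebraMap K _) m) 1 := by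
    refine over_of_range E.inj (le_antisymm ?_ fun y hy => pow_one y ▸ E.pow y hy) (TT_comm hpG2) le_top
    rintro _ ⟨s, rfl⟩
    exact E.mem s
  refine ⟨AlgebraicClosure K, _, _, _, _, fun y => ?_, ⟨xsT hk ((Tw.spc_G2 _ m).amb (Tw.spcD_G2 m) hk (Nat.succ_pos _))
    (gdG _ m) (pm_add 3 _ m _) O (Nat.coprime_one_left _) (fun _ => idx_of_one O rfl) fun σ => ?_⟩⟩
  · exact congrArg _ ((Tw.spc_G2 _ m).sq (Tw.spcD_G2 m) y)
  obtain ⟨g, τ, rfl⟩ := H71.FldAut.ree_aut hm hK σ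
  obtain ⟨j, hj⟩ := exists_frob 3 τ
  refine ⟨_, (O.mem g).2, j, fun s => (conj_hom _ g _ s).trans ?_⟩
  congr 2
  exact frob_eq (hp := hpG2) _ hj rfl rfl

theorem spcD_Bm (m : ℕ) : Tw.SpcD chevB2 2 Tw.brB (fun r => m + Tw.lgB r) (Equiv.swap (0 : Fin 2) 1) (2 * m + 1) :=
  have h : (Tw.swB : Fin 2 → Fin 2) = Equiv.swap (0 : Fin 2) 1 := by decide
  h ▸ Tw.spcD_B2 m

/-- the special isogenies of `B₂` -/
noncomputable def gdBm (k : Type) [Field k] [CharP k 2] [IsAlgClosed k] (m : ℕ) :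
    Gd hpB2 2 (Tw.szA k m) (Equiv.swap 0 1) fun i => m + (![1, 0] : Fin 2 → ℕ) i :=
  gdC (Tw.spc_B2 k m) (spcD_Bm m) posB fun i => congrArg (m + ·) (exB i)

theorem has_2B2 {K : Type} [Field K] [Fintype K] {m : ℕ} (hm : 1 ≤ m) (hK : Fintype.card K = 2 ^ (2 * m + 1)) :
    HasSq hpB2 2 ((2 : ℤ) ^ m • GamB) (2 * m + 1) ↥(Lie.Sz K (2 ^ (m + 1))) := by
  obtain ⟨_, _, hk⟩ := Tw.setup' Nat.prime_two (Nat.succ_ne_zero _) hK
  have E := Tw.emb_B2 (algebraMap K (AlgebraicClosure K)) hK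
  have O : Over (Tw.szA (AlgebraicClosure K) m) ⊤ (TT chevB2 _) (Tw.embB2 (algebraMap K _) (2 ^ (m + 1))) 1 := by
    refine over_of_range E.inj (le_antisymm ?_ fun y hy => pow_one y ▸ E.pow y hy) (TT_comm hpB2) le_top
    rintro _ ⟨s, rfl⟩
    exact E.mem s
  refine ⟨AlgebraicClosure K, _, _, _, _, fun y => ?_, ⟨xsT hk ((Tw.spc_B2 _ m).amb (Tw.spcD_B2 m) hk (Nat.succ_pos _))
    (gdBm _ m) (pm_add 2 _ m _) O (Nat.coprime_one_left _) (fun _ => idx_of_one O rfl) fun σ => ?_⟩⟩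
  · exact congrArg _ ((Tw.spc_B2 _ m).sq (Tw.spcD_B2 m) y)
  obtain ⟨g, τ, φ, h1, h2⟩ := H70.SzAutThm.exists_conj_map hm hK σ
  obtain ⟨j, hj⟩ := exists_frob 2 τ
  refine ⟨_, (O.mem g).2, j, fun s => ?_⟩
  rw [h2, map_mul, map_mul, map_inv]
  congr 2
  obtain ⟨B, h3, h4⟩ := Tw.transfer (fun X => X.map (τ : K →+* K))
    (fun g _ h _ => by rw [Units.val_mul, Matrix.map_mul]) (by simp) (emb hpB2.inList (τ : K →+* K))
    (fun r t => ⟨_, _, Tw.map_uM _ r t, by rw [Tw.toCh_uS, Tw.toCh_uS, emb_xc]⟩) (Tw.szS K _ s)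
  have h5 : Tw.szS K _ (φ s) = B := Tw.toSp_inj (Units.ext (by
    rw [h3, Tw.toSp_szS, Tw.toSp_szS]
    ext a b
    exact h1 s a b))
  have h6 : (emb hpB2.inList (algebraMap K (AlgebraicClosure K))).comp (emb hpB2.inList (τ : K →+* K)) =
      (frobA hpB2.inList 2 j).toMonoidHom.comp (emb hpB2.inList (algebraMap K _)) := by
    refine xr_hom_ext hpB2.inList fun r hr t => ?_
    show emb hpB2.inList _ (emb hpB2.inList _ _) = frobA hpB2.inList 2 j (emb hpB2.inList _ _)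
    rw [emb_xr, emb_xr, emb_xr, frobA_xr, RingHom.coe_coe, hj, map_pow]
  show emb hpB2.inList _ (Tw.toCh K (Tw.szS K _ (φ s))) = _
  rw [h5, h4]
  exact DFunLike.congr_fun h6 _

/-! ### the families of the rows -/

theorem ne_char {F : Type} [Field F] {l r : ℕ} [CharP F r] (h : (l : F) ≠ 0) : l ≠ r := by
  rintro rfl
  exact h (CharP.cast_eq_zero F l)

/-- the characteristic of a finite field -/
theorem exists_char (F : Type) [Field F] [Fintype F] {l : ℕ} (h : (l : F) ≠ 0) :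
    ∃ (r e : ℕ) (_ : Fact r.Prime) (_ : CharP F r), l ≠ r ∧ 0 < e ∧ Fintype.card F = r ^ e := by
  obtain ⟨r, e, _, _, -, he, hF, -⟩ := exists_closure F
  exact ⟨r, e, ‹_›, ‹_›, ne_char h, he, hF⟩

theorem exists_char' (K : Type) [Field K] [Fintype K] {l : ℕ} (h : (l : K) ≠ 0) {q j : ℕ} (hq : IsPrimePow q) (hj : j ≠ 0)
    (hK : Fintype.card K = q ^ j) : ∃ (r e : ℕ) (_ : Fact r.Prime) (_ : CharP K r), l ≠ r ∧ 0 < e ∧ q = r ^ e := by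
  obtain ⟨r, e, _, _, -, he, hF, -⟩ := Tw.setup hq hj hK
  exact ⟨r, e, ‹_›, ‹_›, ne_char h, he, hF⟩

variable {l : ℕ} {S : Type} [Group S]

theorem row_G2 (h : CG2 l S) : ∃ (r e : ℕ) (_ : Fact r.Prime), l ≠ r ∧ 0 < e ∧ 3 ≤ r ^ e ∧
    HasNT hpG2 r ((r : ℤ) ^ e • 1) 1 S := by
  obtain ⟨F, _, _, h1, h2, ⟨i⟩⟩ := h
  obtain ⟨r, e, _, _, h3, he, hF⟩ := exists_char F h1
  exact ⟨r, e, ‹_›, h3, he, hF ▸ h2, (has_G2 hF h2).congr i⟩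

theorem row_F4 (h : CF4 l S) : ∃ (r e : ℕ) (_ : Fact r.Prime), l ≠ r ∧ 0 < e ∧ HasNT hpF4 r ((r : ℤ) ^ e • 1) 1 S := by
  obtain ⟨F, _, _, h1, ⟨i⟩⟩ := h
  obtain ⟨r, e, _, _, h3, he, hF⟩ := exists_char F h1
  exact ⟨r, e, ‹_›, h3, he, (has_F4 hF).congr i⟩

theorem row_E6 (h : CE6 l S) : ∃ (r e : ℕ) (_ : Fact r.Prime), l ≠ r ∧ 0 < e ∧
    HasNT hpE6 r ((r : ℤ) ^ e • 1) (Nat.gcd 3 (r ^ e - 1)) S := by
  obtain ⟨F, _, _, h1, ⟨i⟩⟩ := h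
  obtain ⟨r, e, _, _, h3, he, hF⟩ := exists_char F h1
  exact ⟨r, e, ‹_›, h3, he, (has_E6 hF).congr i⟩

theorem row_E7 (h : CE7 l S) : ∃ (r e : ℕ) (_ : Fact r.Prime), l ≠ r ∧ 0 < e ∧
    HasNT hpE7 r ((r : ℤ) ^ e • 1) (Nat.gcd 2 (r ^ e - 1)) S := by
  obtain ⟨F, _, _, h1, ⟨i⟩⟩ := h
  obtain ⟨r, e, _, _, h3, he, hF⟩ := exists_char F h1
  exact ⟨r, e, ‹_›, h3, he, (has_E7 hF).congr i⟩

theorem row_E8 (h : CE8 l S) : ∃ (r e : ℕ) (_ : Fact r.Prime), l ≠ r ∧ 0 < e ∧ HasNT hpE8 r ((r : ℤ) ^ e • 1) 1 S := by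
  obtain ⟨F, _, _, h1, ⟨i⟩⟩ := h
  obtain ⟨r, e, _, _, h3, he, hF⟩ := exists_char F h1
  exact ⟨r, e, ‹_›, h3, he, (has_E8 hF).congr i⟩

theorem row_2E6 (h : CTe6 l S) : ∃ (r e : ℕ) (_ : Fact r.Prime), l ≠ r ∧ 0 < e ∧
    HasNT hpE6 r ((r : ℤ) ^ e • P6) (Nat.gcd 3 (r ^ e + 1)) S := by
  obtain ⟨K, _, _, q, h1, hq, hK, ⟨i⟩⟩ := h
  obtain ⟨r, e, _, _, h3, he, rfl⟩ := exists_char' K h1 hq two_ne_zero hK
  exact ⟨r, e, ‹_›, h3, he, (has_2E6 hK).congr i⟩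

theorem row_3D4 (h : CTd4 l S) : ∃ (r e : ℕ) (_ : Fact r.Prime), l ≠ r ∧ 0 < e ∧ HasNT hpD4 r ((r : ℤ) ^ e • P4) 1 S := by
  obtain ⟨K, _, _, q, h1, hq, hK, ⟨i⟩⟩ := h
  obtain ⟨r, e, _, _, h3, he, rfl⟩ := exists_char' K h1 hq three_ne_zero hK
  exact ⟨r, e, ‹_›, h3, he, (has_3D4 hK).congr i⟩

theorem row_2F4 (h : Iso2F4 S) : ∃ m : ℕ, 1 ≤ m ∧ HasSq hpF4 2 ((2 : ℤ) ^ m • GamF) (2 * m + 1) S := by
  obtain ⟨K, _, _, m, hm, hK, ⟨i⟩⟩ := h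
  exact ⟨m, hm, (has_2F4 hm hK).congr i⟩

theorem row_2G2 (h : IsoRee S) : ∃ m : ℕ, 1 ≤ m ∧ HasSq hpG2 3 ((3 : ℤ) ^ m • GamG) (2 * m + 1) S := by
  obtain ⟨K, _, _, m, hm, hK, ⟨i⟩⟩ := h
  exact ⟨m, hm, (has_2G2 hm hK).congr i⟩

theorem row_2B2 (h : IsoSuzuki S) : ∃ m : ℕ, 1 ≤ m ∧ HasSq hpB2 2 ((2 : ℤ) ^ m • GamB) (2 * m + 1) S := by
  obtain ⟨K, _, _, m, hm, hK, ⟨i⟩⟩ := h
  exact ⟨m, hm, (has_2B2 hm hK).congr i⟩

end Cfsg.Agent.KM.Nt
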