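import Cfsg.Agent.KM.Tr
import Cfsg.Agent.KM.Own
import Cfsg.Agent.H315.RatB0.SzRee
import Cfsg.Agent.S1157
import Cfsg.Agent.S4578

/-!
# KM (S4999): alternating groups, defining characteristic, Suzuki groups, small Ree groups (helper27)
-/

set_option autoImplicit false

namespace Cfsg.Agent.KM

open Cfsg

theorem rowAlt : RowFor CAlt := by
  rintro p _ S _ _ _ - ⟨n, hn, ⟨e⟩⟩ K _ _ σ M B D H χ hχ
  have h := (S4578.result H.qs n hn (H.equiv.trans e) p M H.hM B H.hB D H.hD χ hχ).1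
  rw [Subgroup.center_eq_top_iff.2 H.ab, Subgroup.index_top, Nat.factorization_one] at h
  exact Nat.le_zero.1 h

theorem rowLie : RowFor CLie := fun _ _ _ _ _ _ _ h _ _ _ σ _ _ _ H _ hχ =>
  Own.own σ H.qs.1.commutator_eq_top H.surj H.ker.le h H.hM H.hB H.hD H.ab hχ

theorem rowSz : RowFor CSz := fun _ _ _ _ _ _ _ h _ _ _ σ _ _ _ H =>
  absurd (OddRank.SzTits.isCyclic_of_isPGroup h.2 h.1 _ (H.pg.map σ)) H.not_cyc

theorem rowRee : RowFor CRee := by
  rintro p hp S _ _ _ - ⟨hp3, h⟩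
  by_cases h2 : p = 2
  · subst h2
    obtain ⟨K, _, _, m, -, hK, ⟨e⟩⟩ := h
    have := Finite.of_equiv S e.toEquiv
    refine Row.of_equiv e (boxSmall 2 _ (Or.inr (Or.inl ⟨rfl, fun h1 => ?_⟩)))
    obtain ⟨a, haH, ha1, ha2⟩ := S1157.exists_involution hK
    obtain ⟨P⟩ : Nonempty (Sylow 2 ↥(Lie.twistedG2 K (3 ^ m))) := inferInstance
    have h3 := P.pow_dvd_card_of_pow_dvd_card (n := 5) h1
    rw [((S1152.result hK a haH ha1 ha2).2 P).1] at h3
    exact absurd h3 (by decide)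
  · intro K _ _ σ M B D H
    have := hp.out.two_le
    exact absurd (H315.RatB0.isCyclic_ree h (by omega) _ (H.pg.map σ)) H.not_cyc

end Cfsg.Agent.KM
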