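import Cfsg.Agent.KM.Box
import Cfsg.Agent.KM.Ht.Main
import Cfsg.Agent.KM.Deg.Bij
import Cfsg.Agent.KM.Deg.Cnt
import Cfsg.Agent.KM.Deg.Dw
import Cfsg.Agent.KM.D3.Box
import Cfsg.Agent.KM.Rt.Core
import Cfsg.Agent.KM.Rt2.Glue

/-!
# KM (S4999): the core is unconditional (helper27)
-/

set_option autoImplicit false
set_option linter.unusedSectionVars false

namespace Cfsg.Agent.KM

open Cfsg Cfsg.Agent.DL

theorem core : Core :=
  core_of (Ht.ht Ht.boxLf) (Ht.ht0 Ht.boxLf) Deg.boxCnt Deg.boxDw D3.boxExp D3.boxPow Deg.boxBij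

theorem boxDEG : Deg.BoxDEG := Deg.boxDEG_of Deg.boxCnt Deg.boxDw D3.boxExp D3.boxPow Deg.boxBij

variable {p : ℕ} [Fact p.Prime] {k : Type} [Field k] [CharP k p] {Y : Type} [Group Y] {N : Type} [Fintype N]
  [DecidableEq N] {ρ : Y →* GL N k} {F : MulAut Y} {G : Subgroup Y} [IsAlgClosed k] {X : Datum p ρ F G}

theorem dwR (X : Datum p ρ F G) : Deg.DwR F G := Rt2.deg_dwR_all Rt.rtCore_all X

/-- **toral defect groups give height zero**, any quasi-split datum -/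
theorem hz_of_toral (hq : X.QS) {l : ℕ} (hl : l.Prime) (hp : l ≠ p) {M : Ideal AlgInt} (hM : IsPModular l M)
    {B : Set (IrrCharacter ↥(GF F G))} {D : Subgroup ↥(GF F G)} (hB : IsPBlock M B) (hD : IsDefectGroup l M B D)
    (hT : Ht.Toral X (D.map (GF F G).subtype)) : BK.HZ l B :=
  core.tz X hq (dwR X) l M hl hM hp B D hB hD hT

/-- **the height inequality**, any quasi-split datum -/
theorem ht_le (hq : X.QS) {l : ℕ} (hl : l.Prime) (hp : l ≠ p) {M : Ideal AlgInt} (hM : IsPModular l M)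
    {B : Set (IrrCharacter ↥(GF F G))} {D : Subgroup ↥(GF F G)} (hB : IsPBlock M B) (hD : IsDefectGroup l M B D)
    {y : Y} (hy : y ∈ G) (hN : y⁻¹ * F y ∈ X.NN) {A : Subgroup Y}
    (hA : Ht.Ctl (X.conj hy hN) (D.map (GF F G).subtype) A) {χ : IrrCharacter ↥(GF F G)} (hχ : χ ∈ B) :
    (charDegree (χ : GF F G → ℂ)).factorization l + (Nat.card ↥(GF F (Ht.Z0 (X.conj hy hN) A))).factorization l ≤
      (Nat.card ↥(GF F G)).factorization l :=
  core.th X hq (dwR X) l M hl hM hp B D hB hD y hy hN A hA χ hχ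

theorem kmg_of_tor (hq : X.QS) {l : ℕ} (hl : l.Prime) (hp : l ≠ p) (hT : TorOr X l) {M : Ideal AlgInt}
    (hM : IsPModular l M) : BK.KMg l M ↥(GF F G) := core.kmg hq (dwR X) hl hp hT hM

end Cfsg.Agent.KM
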