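import Cfsg.Agent.KM.Easy
import Cfsg.Agent.KM.Core
import Cfsg.Agent.KM.BK.Main
import Cfsg.Agent.KM.A.Main
import Cfsg.Agent.KM.Xc.U62
import Cfsg.Agent.KM.Two.O73
import Cfsg.Agent.KM.Two.X3
import Cfsg.Agent.KM.Sc.BD
import Cfsg.Agent.KM.Sc.E4
import Cfsg.Agent.KM.Ex.OneX
import Cfsg.Agent.S0000

/-!
# KM (S4999): assembly, prime by prime (helper27)

* `At C p` : the row `C` at the prime `p`; `Left p` : the exceptional, Tits and sporadic rows at `p`;
* `Left.kmp : Left p → BK.KMp p`; `left_ge`, `left_three`, `left_two` : what is left at `p ≥ 5`, `p = 3`, `p = 2`;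
* `kmp_odd`, `kmAll_of`.
-/

set_option autoImplicit false

namespace Cfsg.Agent.KM

open Cfsg Cfsg.Agent.KZ.DatX Cfsg.Agent.Nodes.RGDChev Cfsg.Agent.ChevalleyStructure.NPerm

universe u

theorem row_psp : RowFor CPsp := .of_split Two.ev_psp BD.od_psp

theorem row_oodd : RowFor COdd := .of_split Two.ev_oodd BD.od_odd

theorem row_oplus : RowFor CPlus := .of_split Two.ev_plus BD.od_plus

theorem row_ominus : RowFor CMinus := .of_split Two.ev_minus BD.od_minus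

/-- the row `C` at one prime -/
def At (C : ℕ → ∀ (S : Type) [Group S], Prop) (p : ℕ) : Prop :=
  ∀ (S : Type) [Group S] [Finite S] [IsSimpleGroup S], ¬ IsMulCommutative S → C p S → Row p S

theorem RowFor.at {C : ℕ → ∀ (S : Type) [Group S], Prop} (h : RowFor C) (p : ℕ) [Fact p.Prime] : At C p := h p

theorem At.of_ev {C : ℕ → ∀ (S : Type) [Group S], Prop} (h : RowFor (Ev C)) : At C 2 :=
  fun S _ _ _ hS h1 => h 2 S hS ⟨rfl, h1⟩

theorem At.of_od {C : ℕ → ∀ (S : Type) [Group S], Prop} (h : RowFor (Od C)) {p : ℕ} [Fact p.Prime] (h2 : p ≠ 2) :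
    At C p := fun S _ _ _ hS h1 => h p S hS ⟨h2, h1⟩

/-- the rows which are not classical -/
structure Left (p : ℕ) : Prop where
  g2 : At CG2 p
  f4 : At CF4 p
  e6 : At CE6 p
  e7 : At CE7 p
  e8 : At CE8 p
  te6 : At CTe6 p
  td4 : At CTd4 p
  tits : At CTits p
  spor : At CSpor p

variable {p : ℕ} [Fact p.Prime]

theorem Left.known (R : Left p) : At (fun _ S _ => IsKnownSimple' S) p := by
  intro S _ _ _ hS hC
  have lie : IsLieTypeChar p S → Row p S := fun h => rowLie p S hS h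
  have exc : IsExceptionalChevChar p S → Row p S := fun h =>
    lie (Or.inr (Or.inr (Or.inr (Or.inr (Or.inr (Or.inr (Or.inl h)))))))
  have tw : IsTwistedE6D4Char p S → Row p S := fun h =>
    lie (Or.inr (Or.inr (Or.inr (Or.inr (Or.inr (Or.inr (Or.inr (Or.inl h))))))))
  rcases hC with h | h | h | h | h | h | h | h | h | h
  · exfalso
    apply hS
    have : Fact (Nat.card S).Prime := ⟨h⟩
    have := isCyclic_of_prime_card (p := Nat.card S) (α := S) rfl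
    exact ⟨⟨fun a b => (IsCyclic.commGroup (α := S)).mul_comm a b⟩⟩
  · exact rowAlt p S hS h
  · obtain ⟨F, iF, iN, n, hn, hn2, he⟩ := h
    by_cases hF : (p : F) = 0
    · exact lie (Or.inl ⟨F, iF, iN, charP_of_cast hF, n, hn, hn2, he⟩)
    · exact A.row_psl core p S hS ⟨F, iF, iN, n, hF, hn, hn2, he⟩
  · obtain ⟨F, iF, iN, n, hn, hn2, he⟩ := h
    by_cases hF : (p : F) = 0
    · exact lie (Or.inr (Or.inl ⟨F, iF, iN, charP_of_cast hF, n, hn, hn2, he⟩))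
    · exact row_psp p S hS ⟨F, iF, iN, n, hF, hn, hn2, he⟩
  · obtain ⟨F, iF, iN, n, q, hq, hn, hn2, he⟩ := h
    by_cases hF : (p : F) = 0
    · exact lie (Or.inr (Or.inr (Or.inl ⟨F, iF, iN, charP_of_cast hF, n, q, hq, hn, hn2, he⟩)))
    · exact A.row_psu core Xc.row_u62 p S hS ⟨F, iF, iN, n, q, hF, hq, hn, hn2, he⟩
  · obtain ⟨F, iF, iN, m, hm, hodd, he⟩ := h
    by_cases hF : (p : F) = 0
    · exact lie (Or.inr (Or.inr (Or.inr (Or.inl ⟨F, iF, iN, charP_of_cast hF, m, hm, hodd, he⟩))))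
    · exact row_oodd p S hS ⟨F, iF, iN, m, hF, hm, hodd, he⟩
  · obtain ⟨F, iF, iN, m, hm, he⟩ := h
    by_cases hF : (p : F) = 0
    · exact lie (Or.inr (Or.inr (Or.inr (Or.inr (Or.inl ⟨F, iF, iN, charP_of_cast hF, m, hm, he⟩)))))
    · exact row_oplus p S hS ⟨F, iF, iN, m, hF, hm, he⟩
  · obtain ⟨F, iF, iN, m, a, b, hm, hab, he⟩ := h
    by_cases hF : (p : F) = 0
    · exact lie (Or.inr (Or.inr (Or.inr (Or.inr (Or.inr (Or.inl
        ⟨F, iF, iN, charP_of_cast hF, m, a, b, hm, hab, he⟩))))))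
    · exact row_ominus p S hS ⟨F, iF, iN, m, a, b, hF, hm, hab, he⟩
  · rcases h with h | h | h | h | h | h | h | h | h | h | h
    · obtain ⟨F, iF, iN, h3, he⟩ := h
      by_cases hF : (p : F) = 0
      · exact exc ⟨F, iF, iN, charP_of_cast hF, Or.inl ⟨h3, he⟩⟩
      · exact R.g2 S hS ⟨F, iF, iN, hF, h3, he⟩
    · obtain ⟨F, iF, iN, he⟩ := h
      by_cases hF : (p : F) = 0
      · exact exc ⟨F, iF, iN, charP_of_cast hF, Or.inr (Or.inl he)⟩
      · exact R.f4 S hS ⟨F, iF, iN, hF, he⟩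
    · obtain ⟨F, iF, iN, he⟩ := h
      by_cases hF : (p : F) = 0
      · exact exc ⟨F, iF, iN, charP_of_cast hF, Or.inr (Or.inr (Or.inl he))⟩
      · exact R.e6 S hS ⟨F, iF, iN, hF, he⟩
    · obtain ⟨F, iF, iN, he⟩ := h
      by_cases hF : (p : F) = 0
      · exact exc ⟨F, iF, iN, charP_of_cast hF, Or.inr (Or.inr (Or.inr (Or.inl he)))⟩
      · exact R.e7 S hS ⟨F, iF, iN, hF, he⟩
    · obtain ⟨F, iF, iN, he⟩ := h
      by_cases hF : (p : F) = 0
      · exact exc ⟨F, iF, iN, charP_of_cast hF, Or.inr (Or.inr (Or.inr (Or.inr he)))⟩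
      · exact R.e8 S hS ⟨F, iF, iN, hF, he⟩
    · obtain ⟨K, iF, iN, q, hq, hK, he⟩ := h
      by_cases hF : (p : K) = 0
      · exact tw ⟨K, iF, iN, charP_of_cast hF, q, hq, Or.inl ⟨hK, he⟩⟩
      · exact R.te6 S hS ⟨K, iF, iN, q, hF, hq, hK, he⟩
    · obtain ⟨K, iF, iN, q, hq, hK, he⟩ := h
      by_cases hF : (p : K) = 0
      · exact tw ⟨K, iF, iN, charP_of_cast hF, q, hq, Or.inr ⟨hK, he⟩⟩
      · exact R.td4 S hS ⟨K, iF, iN, q, hF, hq, hK, he⟩
    · by_cases hp2 : p = 2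
      · exact lie (Or.inr (Or.inr (Or.inr (Or.inr (Or.inr (Or.inr (Or.inr (Or.inr (Or.inl ⟨hp2, h⟩)))))))))
      · exact rowSz p S hS ⟨hp2, h⟩
    · by_cases hp3 : p = 3
      · exact lie (Or.inr (Or.inr (Or.inr (Or.inr (Or.inr (Or.inr (Or.inr (Or.inr (Or.inr (Or.inr
          ⟨hp3, h⟩))))))))))
      · exact rowRee p S hS ⟨hp3, h⟩
    · by_cases hp2 : p = 2
      · exact lie (Or.inr (Or.inr (Or.inr (Or.inr (Or.inr (Or.inr (Or.inr (Or.inr (Or.inr (Or.inl ⟨hp2, h⟩))))))))))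
      · exact Ex.row_ctf4 p S hS ⟨hp2, h⟩
    · exact R.tits S hS h
  · exact R.spor S hS h

theorem Left.qsp (R : Left p) : BK.QSp.{0} p := by
  intro M hM K _ _ hK hz hc B D hB hD hA hn hb hf
  have := hK.2
  refine R.known (K ⧸ Subgroup.center K) (fun hab => ?_) S0000.result K (QuotientGroup.mk' _) M B D
    ⟨hM, hB, hD, hA, hn, hb, hK, QuotientGroup.mk'_surjective _, QuotientGroup.ker_mk' _, hz, hc, hf⟩
  have h1 : commutator K ≤ Subgroup.center K := by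
    rw [← QuotientGroup.ker_mk' (Subgroup.center K), commutator_def, Subgroup.commutator_le]
    intro a _ b _
    rw [MonoidHom.mem_ker, map_commutatorElement, commutatorElement_eq_one_iff_mul_comm]
    exact hab.is_comm.comm _ _
  rw [hK.1.commutator_eq_top] at h1
  obtain ⟨x, y, hxy⟩ := exists_pair_ne (K ⧸ Subgroup.center K)
  obtain ⟨a, rfl⟩ := QuotientGroup.mk_surjective x
  obtain ⟨b, rfl⟩ := QuotientGroup.mk_surjective y
  exact hxy (QuotientGroup.eq.2 (h1 (Subgroup.mem_top _)))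

/-- **the theorem at `p` from the rows left at `p`** -/
theorem Left.kmp (R : Left p) : BK.KMp.{u} p := BK.kmp_of_qsp R.qsp

theorem left_ge (h5 : 5 ≤ p) (tits : At CTits p) (spor : At CSpor p) : Left p where
  g2 := .of_od Ex.od_g2 (by omega)
  f4 := fun _ _ _ _ _ h => Ex.row_f4 (Ex.tx_F4 h5 1) (fun _ => Ex.xF2 h5) h
  e6 := fun _ _ _ _ _ h => Sc.e6_ge h5 h
  e7 := fun _ _ _ _ _ h => Sc.e7_ge h5 h
  e8 := fun _ _ _ _ _ h => Ex.e8_ge h5 h
  te6 := fun _ _ _ _ _ h => Sc.te6_ge h5 h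
  td4 := .of_od Ex.od_td4 (by omega)
  tits := tits
  spor := spor

theorem left_three (f4 : Ex.XF2 3) (e6 : At CE6 3) (e7 : At CE7 3) (e8 : At CE8 3) (te6 : At CTe6 3)
    (tits : At CTits 3) (spor : At CSpor 3) : Left 3 :=
  have : Fact (Nat.Prime 3) := ⟨Nat.prime_three⟩
  ⟨.of_od Ex.od_g2 (by decide), .of_od (Ex.od_f4 f4) (by decide), e6, e7, e8, te6, .of_od Ex.od_td4 (by decide), tits, spor⟩

theorem at_e7_three (h : Sc.TE7 3) : At CE7 3 :=
  have : Fact (Nat.Prime 3) := ⟨Nat.prime_three⟩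
  .of_od (Sc.od_e7 h) (by decide)

theorem at_e8 (h : Ex.TX hpE8 1 p) : At CE8 p := fun _ _ _ _ _ h1 => Ex.row_e8 h h1

theorem at_g2_two (h : Ex.TX hpG2 1 2) : At CG2 2 :=
  fun _ _ _ _ _ h1 => Ex.row_g2 h (fun _ F _ _ e => Two.row_g23 F e) (fun e => absurd rfl e) h1

theorem at_f4_two (h : Ex.TX hpF4 1 2) : At CF4 2 := fun _ _ _ _ _ h1 => Ex.row_f4 h (fun e => absurd rfl e) h1

theorem at_td4_two (h : Ex.TX hpD4 P4 2) : At CTd4 2 := fun _ _ _ _ _ h1 => Ex.row_td4 h h1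

theorem left_two (g2 : Ex.TX hpG2 1 2) (f4 : Ex.TX hpF4 1 2) (e6 : Sc.TE6 2) (e7 : At CE7 2) (e8 : At CE8 2)
    (te6 : Sc.TT6 2) (td4 : Ex.TX hpD4 P4 2) (tits : At CTits 2) (spor : At CSpor 2) : Left 2 :=
  ⟨at_g2_two g2, at_f4_two f4, .of_ev (Sc.ev_e6 e6), e7, e8, .of_ev (Sc.ev_te6 te6), at_td4_two td4, tits, spor⟩

/-- the odd primes -/
theorem kmp_odd (h3 : Left 3) (tits : RowFor (Od CTits)) (spor : RowFor (Od CSpor)) (h2 : p ≠ 2) : BK.KMp.{u} p := by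
  rcases Ex.odd_cases h2 with rfl | h5
  exacts [h3.kmp, (left_ge h5 (.of_od tits h2) (.of_od spor h2)).kmp]

/-- all primes -/
theorem kmAll_of (h2 : Left 2) (h3 : Left 3) (tits : RowFor (Od CTits)) (spor : RowFor (Od CSpor)) : BK.KMAll.{u} :=
  fun p _ => by
    by_cases e : p = 2
    · subst e
      exact h2.kmp
    · exact kmp_odd h3 tits spor e

end Cfsg.Agent.KM
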