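import Cfsg.Agent.KM.Defs
import Cfsg.Agent.KM.Deg.Glue
import Cfsg.Agent.TO.X.Conn

/-!
# KM (S4999): the interface of the rows of Lie type (helper27)

* `Core` : the height inequality with the content of the degree polynomial removed (`th`, `tz`) and rationality (`dw`);
* `TorOr X l` : every abelian defect group of `G ^ F` is toral, or the heights vanish for another reason; `Core.kmg`;
* `Sc X S` : `G ^ F` is the universal cover of `S` up to the characteristic;
* `BoxQuot`, `BoxNorm`, `BoxSc`, `BoxMult`, `BoxSmall` : transfer of `KMg` (pure block theory, `KM/Tr.lean`).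
-/

set_option autoImplicit false
set_option linter.unusedSectionVars false

namespace Cfsg.Agent.KM

open Cfsg Cfsg.Agent.DL Cfsg.Agent.KZ.Lie

/-- the height inequality -/
def TH : Prop :=
  ∀ {p : ℕ} [Fact p.Prime] {k : Type} [Field k] [CharP k p] {Y : Type} [Group Y] {N : Type} [Fintype N]
    [DecidableEq N] {ρ : Y →* GL N k} {F : MulAut Y} {G : Subgroup Y} [IsAlgClosed k] (X : Datum p ρ F G),
    X.QS → Deg.DwR F G → ∀ (l : ℕ) (M : Ideal AlgInt), l.Prime → IsPModular l M → l ≠ p →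
    ∀ (B : Set (IrrCharacter ↥(GF F G))) (D : Subgroup ↥(GF F G)), IsPBlock M B → IsDefectGroup l M B D →
    ∀ (y : Y) (hy : y ∈ G) (hN : y⁻¹ * F y ∈ X.NN) (A : Subgroup Y),
      Ht.Ctl (X.conj hy hN) (D.map (GF F G).subtype) A → ∀ χ ∈ B,
      (charDegree (χ : GF F G → ℂ)).factorization l + (Nat.card ↥(GF F (Ht.Z0 (X.conj hy hN) A))).factorization l ≤
        (Nat.card ↥(GF F G)).factorization l

/-- toral defect groups give height zero -/
def TZ : Prop :=
  ∀ {p : ℕ} [Fact p.Prime] {k : Type} [Field k] [CharP k p] {Y : Type} [Group Y] {N : Type} [Fintype N]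
    [DecidableEq N] {ρ : Y →* GL N k} {F : MulAut Y} {G : Subgroup Y} [IsAlgClosed k] (X : Datum p ρ F G),
    X.QS → Deg.DwR F G → ∀ (l : ℕ) (M : Ideal AlgInt), l.Prime → IsPModular l M → l ≠ p →
    ∀ (B : Set (IrrCharacter ↥(GF F G))) (D : Subgroup ↥(GF F G)), IsPBlock M B → IsDefectGroup l M B D →
    Ht.Toral X (D.map (GF F G).subtype) → BK.HZ l B

/-- what the rows may use -/
structure Core : Prop where
  th : TH
  tz : TZ
  dw : Deg.BoxDw

theorem core_of (h : Ht.HT) (h0 : Ht.HT0) (h1 : Deg.BoxCnt) (h2 : Deg.BoxDw) (h3 : Deg.BoxExp) (h4 : Deg.BoxPow)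
    (hB : Deg.BoxBij) : Core where
  th := fun {p _ _ _ _ _ _ _ _ _ _ F G _} X hq hD l M hl hM hp B D h5 h6 y hy hN A hA χ hχ => by
    have := X.amb.finite_GF G
    have := Fintype.ofFinite (GF F G)
    obtain ⟨f⟩ := nonempty_fr X
    exact h f hq l M hM hp B D h5 h6 y hy hN A hA χ hχ 0 (Deg.deg_of_dwR hq f h1 h3 h4 hB hD χ.2 hl hp).degLe
  tz := fun {p _ _ _ _ _ _ _ _ _ _ F G _} X hq hD l M hl hM hp B D h5 h6 hT χ hχ => by
    have := X.amb.finite_GF G
    have := Fintype.ofFinite (GF F G)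
    obtain ⟨f⟩ := nonempty_fr X
    exact h0 f hq l M hM hp B D h5 h6 hT χ hχ (Deg.deg_of_dwR hq f h1 h3 h4 hB hD χ.2 hl hp)
  dw := h2

section Dat

variable {p : ℕ} [Fact p.Prime] {k : Type} [Field k] [CharP k p] {Y : Type} [Group Y] {N : Type} [Fintype N]
  [DecidableEq N] {ρ : Y →* GL N k} {F : MulAut Y} {G : Subgroup Y} [IsAlgClosed k]

theorem Core.dwR (C : Core) (X : Datum p ρ F G) (h : Deg.NT p ρ F) : Deg.DwR F G := (C.dw X h).dwP.dwR

variable (X : Datum p ρ F G)

/-- every abelian defect group is toral, or the heights vanish -/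
def TorOr (l : ℕ) : Prop :=
  ∀ (M : Ideal AlgInt) (B : Set (IrrCharacter ↥(GF F G))) (D : Subgroup ↥(GF F G)), IsPModular l M → IsPBlock M B →
    IsDefectGroup l M B D → IsMulCommutative D → Ht.Toral X (D.map (GF F G).subtype) ∨ BK.HZ l B

variable {X} in
theorem Core.kmg (C : Core) (hq : X.QS) (hD : Deg.DwR F G) {l : ℕ} (hl : l.Prime) (hp : l ≠ p) (hT : TorOr X l)
    {M : Ideal AlgInt} (hM : IsPModular l M) : BK.KMg l M ↥(GF F G) := fun B D h1 h2 h3 =>
  (hT M B D hM h1 h2 h3).elim (C.tz X hq hD l M hl hM hp B D h1 h2) id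

/-- `G ^ F` is the universal cover of `S` up to the characteristic -/
structure Sc (S : Type) [Group S] where
  qs : X.QS
  nt : Deg.NT p ρ F
  pi1 : TO.X.Cn.Pi1 X 1
  π : ↥(GF F G) →* S
  surj : Function.Surjective π
  ker : π.ker = Subgroup.center ↥(GF F G)
  perf : commutator ↥(GF F G) = ⊤
  cov : ∀ (K : Type) [Group K] [Finite K], IsQuasisimple K → ¬ p ∣ Nat.card (Subgroup.center K) →
    ∀ e : (K ⧸ Subgroup.center K) ≃* S, ∃ ψ : ↥(GF F G) →* K, Function.Surjective ψ ∧
      ∀ s, e (QuotientGroup.mk (ψ s)) = π s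

end Dat

/-! ### transfer -/

/-- quotients by subgroups of order prime to `l` -/
def BoxQuot : Prop := ∀ (l : ℕ) [Fact l.Prime] (M : Ideal AlgInt), IsPModular l M →
  ∀ (H K : Type) [Group H] [Group K] [Finite H] (φ : H →* K), Function.Surjective φ → ¬ l ∣ Nat.card φ.ker →
    BK.KMg l M H → BK.KMg l M K

/-- normal subgroups of index prime to `l` modulo the centre -/
def BoxNorm : Prop := ∀ (l : ℕ) [Fact l.Prime] (M : Ideal AlgInt), IsPModular l M →
  ∀ (H K : Type) [Group H] [Group K] [Finite H] (ι : K →* H), Function.Injective ι → ι.range.Normal →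
    ¬ l ∣ (ι.range ⊔ Subgroup.center H).index → BK.KMg l M H → BK.KMg l M K

/-- a row from a cover `H` which dominates the covers with centre of order prime to `r` -/
def BoxSc : Prop := ∀ (l : ℕ) [Fact l.Prime] (r : ℕ) (H S : Type) [Group H] [Group S] [Finite H] (π : H →* S),
  r.Prime → ¬ l ∣ Nat.card π.ker →
  (∀ (K : Type) [Group K] [Finite K], IsQuasisimple K → ¬ r ∣ Nat.card (Subgroup.center K) →
    ∀ e : (K ⧸ Subgroup.center K) ≃* S, ∃ ψ : H →* K, Function.Surjective ψ ∧ ∀ s, e (QuotientGroup.mk (ψ s)) = π s) →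
  ∀ (A : Type) [CommGroup A], HasSchurMultiplier S A → ¬ r ∣ Nat.card A →
  (∀ M, IsPModular l M → BK.KMg l M H) → Row l S

/-- a row from a perfect central extension `H` whose kernel is the `l'`-part of the multiplier (`H = S` : the
multiplier is an `l`-group) -/
def BoxMult : Prop := ∀ (l : ℕ) [Fact l.Prime] (H S : Type) [Group H] [Group S] [Finite H] (π : H →* S),
  Function.Surjective π → π.ker ≤ Subgroup.center H → commutator H = ⊤ → ¬ l ∣ Nat.card π.ker →
  ∀ (A : Type) [CommGroup A] (a : ℕ), HasSchurMultiplier S A → Nat.card A ∣ Nat.card π.ker * l ^ a →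
  (∀ M, IsPModular l M → BK.KMg l M H) → Row l S

/-- small or cyclic Sylow subgroups -/
def BoxSmall : Prop := ∀ (l : ℕ) [Fact l.Prime] (S : Type) [Group S] [Finite S],
  (¬ l ^ 3 ∣ Nat.card S ∨ (l = 2 ∧ ¬ 32 ∣ Nat.card S) ∨ ∀ P : Sylow l S, IsCyclic P) → Row l S

end Cfsg.Agent.KM
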