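import Cfsg.Agent.KM.Ge
import Cfsg.Agent.KM.Ev.Fr
import Cfsg.Agent.KM.Ev.E6X
import Cfsg.Agent.KM.E2.E8
import Cfsg.Agent.KM.E2.P8
import Cfsg.Agent.KM.E2.G
import Cfsg.Agent.KM.E2.TA
import Cfsg.Agent.KM.E2.P3
import Cfsg.Agent.KM.E2.P4

/-!
# KM (S4999): the prime `2` from the last boxes (helper27)
-/

set_option autoImplicit false

namespace Cfsg.Agent.KM

open Cfsg

theorem at_e8_two (hL : E2.BoxL8) (hA : E2.BoxA1) (hD : E2.BoxD4) : At CE8 2 :=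
  have : Fact (Nat.Prime 2) := ⟨Nat.prime_two⟩
  at_e8 (E2.tx_e8_of hL E2.boxP8 E2.boxG E2.boxK hA E2.boxSat E2.boxTA hD (E2.boxP3_of E2.boxIX) E2.boxP4 E2.boxP5)

theorem left2_of (e7 : At CE7 2) (e8 : At CE8 2) : Left 2 :=
  have : Fact (Nat.Prime 2) := ⟨Nat.prime_two⟩
  left2 (at_g2_two Ev.tx_g2) (at_f4_two Ev.tx_f4) (.of_ev (Sc.ev_e6 Ev.te6)) e7 e8 (.of_ev (Sc.ev_te6 Ev.tt6))
    (at_td4_two Ev.tx_td4)

end Cfsg.Agent.KM
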