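import Cfsg.Agent.KM.Odd
import Cfsg.Agent.KM.Ev0
import Cfsg.Agent.KM.E2.D4
import Cfsg.Agent.KM.E2.E7b
import Cfsg.Agent.KM.E2.S1
import Cfsg.Agent.KM.E2.S2
import Cfsg.Agent.KM.E2.L7
import Cfsg.Agent.KM.E2.BL

/-!
# KM (S4999): the theorem from the last three boxes (helper27)
-/

set_option autoImplicit false

namespace Cfsg.Agent.KM

open Cfsg

universe u

theorem kmAll_of3 (hA : E2.BoxA1) (hL : E2.BoxL8) (hB : E2.BoxBS) : BK.KMAll.{u} :=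
  kmAll_of' (left2_of (E2.at_e7_of E2.boxBL hA (E2.boxS1_of E2.boxG E2.boxFR) (E2.boxS2_of hB E2.boxFR E2.boxTA) E2.boxL7)
    (at_e8_two hL hA (E2.boxD4_of E2.boxSat E2.boxTA))) left_3

end Cfsg.Agent.KM
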