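import Cfsg.Agent.KM.Glue
import Cfsg.Agent.KM.Sp.Main

/-!
# KM (S4999): the primes `p ≥ 5`; what is left at `2` and `3` (helper27)
-/

set_option autoImplicit false

namespace Cfsg.Agent.KM

open Cfsg

universe u

variable {p : ℕ} [Fact p.Prime]

/-- **the theorem for `p ≥ 5`** -/
theorem kmp_ge (h5 : 5 ≤ p) : BK.KMp.{u} p := (left_ge h5 (Sp.rowTits.at p) (Sp.rowSpor.at p)).kmp

theorem left3 (f4 : Ex.XF2 3) (e6 : At CE6 3) (e7 : At CE7 3) (e8 : At CE8 3) (te6 : At CTe6 3) : Left 3 :=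
  have : Fact (Nat.Prime 3) := ⟨Nat.prime_three⟩
  left_three f4 e6 e7 e8 te6 (Sp.rowTits.at 3) (Sp.rowSpor.at 3)

theorem left2 (g2 : At CG2 2) (f4 : At CF4 2) (e6 : At CE6 2) (e7 : At CE7 2) (e8 : At CE8 2) (te6 : At CTe6 2)
    (td4 : At CTd4 2) : Left 2 := ⟨g2, f4, e6, e7, e8, te6, td4, Sp.rowTits.at 2, Sp.rowSpor.at 2⟩

theorem kmp_odd' (h3 : Left 3) (h2 : p ≠ 2) : BK.KMp.{u} p := by
  rcases Ex.odd_cases h2 with rfl | h5
  exacts [h3.kmp, kmp_ge h5]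

theorem kmAll_of' (h2 : Left 2) (h3 : Left 3) : BK.KMAll.{u} := fun p _ => by
  by_cases e : p = 2
  · subst e
    exact h2.kmp
  · exact kmp_odd' h3 e

end Cfsg.Agent.KM
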